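import Groth.Agent.Lib.PC.FiniteType
import Mathlib.CategoryTheory.Abelian.Refinements

/-!
# Finite type and precoherent objects relative to a subcategory
-/

universe v u

open CategoryTheory CategoryTheory.Limits

namespace GrothLib.PC

variable {C : Type u} [Category.{v} C] [Abelian C] (P : ObjectProperty C)

/-- Maps from `C₀` have kernels of finite type. -/
def Precoh (F : C) : Prop := ∀ (E : C) (u : E ⟶ F), P E → PCoh.IsOfFiniteType P (kernel u)

/-- Coherent relative to `C₀`. -/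
def Coherent (F : C) : Prop := PCoh.IsOfFiniteType P F ∧ Precoh P F

theorem precoh_of_mono {F G : C} (f : F ⟶ G) [Mono f] (h : Precoh P G) : Precoh P F := by
  intro E u hE
  obtain ⟨Q, π, hQ, _⟩ := h E (u ≫ f) hE
  have : (kernel.ι (u ≫ f)) ≫ u = 0 := by
    rw [← cancel_mono f, Category.assoc, kernel.condition, zero_comp]
  refine ⟨Q, π ≫ kernel.lift u _ this, hQ, ?_⟩
  have : IsSplitEpi (kernel.lift u _ this) :=
    ⟨⟨⟨kernel.lift (u ≫ f) (kernel.ι u) (by simp), by ext; simp⟩⟩⟩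
  exact epi_comp _ _

/-- `F → G → H` with `F → G` mono: a quotient of `G`'s cover gives one of `F`'s. -/
theorem isOfFiniteType_of_exact (S : ShortComplex C) (hS : S.Exact) [Mono S.f]
    (hG : PCoh.IsOfFiniteType P S.X₂) (hH : Precoh P S.X₃) : PCoh.IsOfFiniteType P S.X₁ := by
  obtain ⟨Q, π, hQ, hπ⟩ := hG
  obtain ⟨R, ρ, hR, hρ⟩ := hH Q (π ≫ S.g) hQ
  let l := hS.lift (kernel.ι (π ≫ S.g) ≫ π) (by simp)
  have hl : Epi l := by
    rw [epi_iff_surjective_up_to_refinements]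
    intro A a
    obtain ⟨A', p, _, q, hq⟩ := surjective_up_to_refinements_of_epi π (a ≫ S.f)
    refine ⟨A', p, inferInstance, kernel.lift (π ≫ S.g) q ?_, ?_⟩
    · rw [← Category.assoc, ← hq]; simp
    · rw [← cancel_mono S.f]; simp [l, ← hq]
  exact ⟨R, ρ ≫ l, hR, epi_comp _ _⟩

theorem isOfFiniteType_kernel {F G : C} (w : F ⟶ G) (hF : PCoh.IsOfFiniteType P F)
    (hG : Precoh P G) : PCoh.IsOfFiniteType P (kernel w) :=
  isOfFiniteType_of_exact P (ShortComplex.mk (kernel.ι w) w (kernel.condition w))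
    (ShortComplex.exact_of_f_is_kernel _ (kernelIsKernel w)) hF hG

theorem coherent_kernel {F G : C} (w : F ⟶ G) (hF : Coherent P F) (hG : Precoh P G) :
    Coherent P (kernel w) :=
  ⟨isOfFiniteType_kernel P w hF.1 hG, precoh_of_mono P (kernel.ι w) hF.2⟩

variable [P.IsClosedUnderIsomorphisms] (hsum : ∀ X Y : C, P X → P Y → P (X ⨯ Y))
  (hql : PCoh.IsQuasiLiftable P)

theorem precoh_extension (S : ShortComplex C) (hS : S.ShortExact) (h₁ : Precoh P S.X₁)
    (h₃ : Precoh P S.X₃) : Precoh P S.X₂ := by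
  intro E u hE
  have := hS.mono_f
  have hK := h₃ E (u ≫ S.g) hE
  let w := hS.exact.lift (kernel.ι (u ≫ S.g) ≫ u) (by simp)
  have hw : w ≫ S.f = kernel.ι (u ≫ S.g) ≫ u := hS.exact.lift_f _ _
  have h0 : (kernel.ι w ≫ kernel.ι (u ≫ S.g)) ≫ u = 0 := by
    rw [Category.assoc, ← hw, kernel.condition_assoc, zero_comp]
  have h1 : kernel.lift (u ≫ S.g) (kernel.ι u) (by simp) ≫ w = 0 := by
    rw [← cancel_mono S.f, Category.assoc, hw]
    simp
  have : IsSplitEpi (kernel.lift u _ h0) := ⟨⟨⟨kernel.lift w _ h1, by ext; simp⟩⟩⟩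
  exact isOfFiniteType_of_epi P (kernel.lift u _ h0) (isOfFiniteType_kernel P w hK h₁)

include hsum hql in
theorem isOfFiniteType_extension (S : ShortComplex C) (hS : S.ShortExact)
    (h₁ : PCoh.IsOfFiniteType P S.X₁) (h₃ : PCoh.IsOfFiniteType P S.X₃) :
    PCoh.IsOfFiniteType P S.X₂ := by
  obtain ⟨Q₁, π₁, hQ₁, hπ₁⟩ := h₁
  obtain ⟨Q₃, π₃, hQ₃, hπ₃⟩ := h₃
  have := hS.epi_g
  obtain ⟨Q, v, hQ, hv⟩ := hql (pullback S.g π₃) Q₃ (pullback.snd _ _) inferInstance hQ₃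
  refine ⟨Q₁ ⊞ Q, biprod.desc (π₁ ≫ S.f) (v ≫ pullback.fst _ _),
    P.prop_of_iso (biprod.isoProd _ _).symm (hsum _ _ hQ₁ hQ), ?_⟩
  rw [epi_iff_surjective_up_to_refinements]
  intro A a
  obtain ⟨A₁, p₁, _, b, hb⟩ := surjective_up_to_refinements_of_epi
    ((v ≫ pullback.snd S.g π₃) ≫ π₃) (a ≫ S.g)
  simp only [Category.assoc, ← pullback.condition] at hb
  obtain ⟨A₂, p₂, _, c, hc⟩ := hS.exact.exact_up_to_refinements
    (p₁ ≫ a - b ≫ v ≫ pullback.fst _ _) (by simp [hb])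
  obtain ⟨A₃, p₃, _, d, hd⟩ := surjective_up_to_refinements_of_epi π₁ c
  refine ⟨A₃, p₃ ≫ p₂ ≫ p₁, inferInstance, biprod.lift d (p₃ ≫ p₂ ≫ b), ?_⟩
  rw [Preadditive.comp_sub, sub_eq_iff_eq_add] at hc
  simp [hc, reassoc_of% hd, Preadditive.comp_add]

include hsum hql in
theorem precoh_of_exact (S : ShortComplex C) (hS : S.Exact) [Epi S.g]
    (h₁ : PCoh.IsOfFiniteType P S.X₁) (h₂ : Precoh P S.X₂) : Precoh P S.X₃ := by
  intro E u hE
  obtain ⟨Q₁, π₁, hQ₁, hπ₁⟩ := h₁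
  obtain ⟨Q, v, hQ, hr⟩ := hql (pullback S.g u) E (pullback.snd _ _) inferInstance hE
  let r := v ≫ pullback.snd S.g u
  let v' := v ≫ pullback.fst S.g u
  have hvr : v' ≫ S.g = r ≫ u := by simp [r, v', pullback.condition]
  let φ : Q ⊞ Q₁ ⟶ S.X₂ := biprod.desc v' (π₁ ≫ S.f)
  have hK := h₂ (Q ⊞ Q₁) φ (P.prop_of_iso (biprod.isoProd _ _).symm (hsum _ _ hQ hQ₁))
  have h0 : (kernel.ι φ ≫ biprod.fst ≫ r) ≫ u = 0 := by
    have hid : biprod.fst ≫ r ≫ u = φ ≫ S.g := by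
      apply biprod.hom_ext' <;> simp [φ, hvr]
    simp only [Category.assoc, hid, kernel.condition_assoc, zero_comp]
  have : Epi (kernel.lift u _ h0) := by
    rw [epi_iff_surjective_up_to_refinements]
    intro A a
    obtain ⟨A₁, p₁, _, q, hq⟩ := surjective_up_to_refinements_of_epi r (a ≫ kernel.ι u)
    obtain ⟨A₂, p₂, _, c, hc⟩ := hS.exact_up_to_refinements (q ≫ v')
      (by rw [Category.assoc, hvr, ← Category.assoc, ← hq]; simp)
    obtain ⟨A₃, p₃, _, d, hd⟩ := surjective_up_to_refinements_of_epi π₁ c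
    refine ⟨A₃, p₃ ≫ p₂ ≫ p₁, inferInstance,
      kernel.lift φ (biprod.lift (p₃ ≫ p₂ ≫ q) (-d)) ?_, ?_⟩
    · simp [φ, hc, reassoc_of% hd]
    · ext
      simp [hq]
  exact isOfFiniteType_of_epi P (kernel.lift u _ h0) hK

omit [P.IsClosedUnderIsomorphisms] in
theorem precoh_of_iso {F G : C} (e : F ≅ G) (h : Precoh P F) : Precoh P G :=
  precoh_of_mono P e.inv h

theorem coherent_of_iso {F G : C} (e : F ≅ G) (h : Coherent P F) : Coherent P G :=
  ⟨isOfFiniteType_of_iso P e h.1, precoh_of_iso P e h.2⟩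

end GrothLib.PC
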