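import Groth.Agent.Lib.PC.Derived
import Groth.Agent.Lib.PC.Coherent
import Mathlib.Algebra.Homology.DerivedCategory.ShortExact
import Mathlib.Algebra.Homology.DerivedCategory.SingleTriangle

/-!
# Dévissage of complexes by their terms and by their homology
-/

universe w v u

open CategoryTheory CategoryTheory.Limits CategoryTheory.Pretriangulated DerivedCategory ZeroObject

namespace GrothLib.PC

variable {C : Type u} [Category.{v} C] [Abelian C] [HasDerivedCategory.{w} C]

theorem isIso_homology_mor₁ {T : Triangle (DerivedCategory C)} (hT : T ∈ distTriang _) (i : ℤ)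
    (h : IsZero ((homologyFunctor C i).obj T.obj₃))
    (h' : IsZero ((homologyFunctor C (i - 1)).obj T.obj₃)) :
    IsIso ((homologyFunctor C i).map T.mor₁) := by
  have := (HomologySequence.epi_homologyMap_mor₁_iff T hT i).2 (h.eq_of_tgt _ _)
  have := (HomologySequence.mono_homologyMap_mor₁_iff T hT (i - 1) i (by omega)).2 (h'.eq_of_src _ _)
  exact isIso_of_mono_of_epi _

theorem isIso_homology_mor₂ {T : Triangle (DerivedCategory C)} (hT : T ∈ distTriang _) (i : ℤ)
    (h : IsZero ((homologyFunctor C i).obj T.obj₁))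
    (h' : IsZero ((homologyFunctor C (i + 1)).obj T.obj₁)) :
    IsIso ((homologyFunctor C i).map T.mor₂) := by
  have := (HomologySequence.mono_homologyMap_mor₂_iff T hT i).2 (h.eq_of_src _ _)
  have := (HomologySequence.epi_homologyMap_mor₂_iff T hT i (i + 1) rfl).2 (h'.eq_of_tgt _ _)
  exact isIso_of_mono_of_epi _

/-- Homology of a single object. -/
noncomputable def homologySingleIso (b : ℤ) (Y : C) :
    (homologyFunctor C b).obj ((singleFunctor C b).obj Y) ≅ Y :=
  (homologyFunctorFactors C b).app _ ≪≫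
    HomologicalComplex.singleObjHomologySelfIso (ComplexShape.up ℤ) b Y

theorem isZero_homology_single (b i : ℤ) (h : i ≠ b) (Y : C) :
    IsZero ((homologyFunctor C i).obj ((singleFunctor C b).obj Y)) :=
  ((HomologicalComplex.isZero_single_obj_homology _ b Y i h)).of_iso
    ((homologyFunctorFactors C i).app _)

theorem isZero_homology_of_isLE {K : CochainComplex C ℤ} {i : ℤ} (h : IsZero (K.X i)) :
    IsZero ((homologyFunctor C i).obj (Q.obj K)) :=
  (exactAt_iff_isZero K i).1 (ShortComplex.exact_of_isZero_X₂ _ h)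

/-- Top homology triangle. -/
theorem exists_top_triangle (F : DerivedCategory C) (b : ℤ)
    (hb : ∀ i, b < i → IsZero ((homologyFunctor C i).obj F)) :
    ∃ (F' : DerivedCategory C) (a : F' ⟶ F)
      (p : F ⟶ (singleFunctor C b).obj ((homologyFunctor C b).obj F))
      (c : (singleFunctor C b).obj ((homologyFunctor C b).obj F) ⟶ F'⟦(1 : ℤ)⟧),
      Triangle.mk a p c ∈ distTriang _ ∧
      (∀ i, b ≤ i → IsZero ((homologyFunctor C i).obj F')) ∧
      ∀ i, i < b → IsIso ((homologyFunctor C i).map a) := by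
  let G := Q.objPreimage F
  let e : Q.obj G ≅ F := Q.objObjPreimageIso F
  let ι := G.ιTruncLE (b - 1)
  have hτ : ∀ i, b ≤ i → IsZero ((homologyFunctor C i).obj (Q.obj (G.truncLE (b - 1)))) :=
    fun i hi ↦ isZero_homology_of_isLE ((G.truncLE (b - 1)).isZero_of_isStrictlyLE (b - 1) i (by omega))
  have hι : ∀ i, i < b → IsIso ((homologyFunctor C i).map (Q.map ι)) := fun i hi ↦ by
    rw [← Functor.comp_map, NatIso.isIso_map_iff (homologyFunctorFactors C i)]
    exact (quasiIsoAt_iff_isIso_homologyMap _ i).1 (G.quasiIsoAt_ιTruncLE (b - 1) i (by omega))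
  let T := Q.mapTriangle.obj (CochainComplex.mappingCone.triangle ι)
  have hT : T ∈ distTriang _ := mappingCone_triangle_distinguished ι
  have hb' : ∀ i, b < i → IsZero ((homologyFunctor C i).obj (Q.obj G)) :=
    fun i hi ↦ (hb i hi).of_iso ((homologyFunctor C i).mapIso e)
  have hge : T.obj₃.IsGE b := (isGE_iff _ _).2 fun i hi ↦ by
    have h1 : (homologyFunctor C i).map T.mor₂ = 0 :=
      (HomologySequence.epi_homologyMap_mor₁_iff T hT i).1 (by
        have := hι i hi
        exact (inferInstance : Epi ((homologyFunctor C i).map (Q.map ι))))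
    have h2 : HomologySequence.δ T i (i + 1) rfl = 0 :=
      (HomologySequence.mono_homologyMap_mor₁_iff T hT i (i + 1) rfl).1 (by
        by_cases h : i + 1 < b
        · have := hι (i + 1) h
          exact (inferInstance : Mono ((homologyFunctor C (i + 1)).map (Q.map ι)))
        · exact ⟨fun {_} _ _ _ ↦ (hτ (i + 1) (by omega)).eq_of_tgt _ _⟩)
    exact (HomologySequence.exact₃ T hT i (i + 1) rfl).isZero_of_both_zeros h1 h2
  have hle : T.obj₃.IsLE b := (isLE_iff _ _).2 fun i hi ↦ by
    have := isIso_homology_mor₂ hT i (hτ i (by omega)) (hτ (i + 1) (by omega))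
    exact (hb' i hi).of_iso (asIso ((homologyFunctor C i).map T.mor₂)).symm
  obtain ⟨Y, ⟨eY⟩⟩ := exists_iso_singleFunctor_obj_of_isGE_of_isLE T.obj₃ b
  have := isIso_homology_mor₂ hT b (hτ b le_rfl) (hτ (b + 1) (by omega))
  let e' : T.obj₂ ≅ F := e
  let eH : Y ≅ (homologyFunctor C b).obj F := (homologySingleIso b Y).symm ≪≫
    (homologyFunctor C b).mapIso eY.symm ≪≫ (asIso ((homologyFunctor C b).map T.mor₂)).symm ≪≫
      (homologyFunctor C b).mapIso e'
  let f₃ : T.obj₃ ≅ (singleFunctor C b).obj ((homologyFunctor C b).obj F) :=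
    eY ≪≫ (singleFunctor C b).mapIso eH
  refine ⟨T.obj₁, T.mor₁ ≫ e'.hom, e'.inv ≫ T.mor₂ ≫ f₃.hom, f₃.inv ≫ T.mor₃, ?_, hτ, fun i hi ↦ ?_⟩
  · exact isomorphic_distinguished _ hT _ (Iso.symm (Triangle.isoMk _ _ (Iso.refl _) e' f₃
      (Category.id_comp _).symm (e'.hom_inv_id_assoc _).symm
      (((congrArg (T.mor₃ ≫ ·) ((shiftFunctor _ (1 : ℤ)).map_id _)).trans (Category.comp_id _)).trans
        (f₃.hom_inv_id_assoc _).symm)))
  · have h1 : IsIso ((homologyFunctor C i).map T.mor₁) := hι i hi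
    exact ((homologyFunctor C i).map_comp T.mor₁ e'.hom).symm ▸ IsIso.comp_isIso' h1 inferInstance

/-- Dévissage by homology. -/
theorem homology_induction (Φ : DerivedCategory C → Prop)
    (hext : ∀ T : Triangle (DerivedCategory C), T ∈ distTriang _ → Φ T.obj₁ → Φ T.obj₃ → Φ T.obj₂)
    (lo : ℤ) (hbase : ∀ F : DerivedCategory C,
      (∀ i, lo ≤ i → IsZero ((homologyFunctor C i).obj F)) → Φ F)
    (F : DerivedCategory C) (b : ℤ) (hb : ∀ i, b < i → IsZero ((homologyFunctor C i).obj F))
    (h : ∀ i, lo ≤ i → i ≤ b → ∀ Y : C, Nonempty (Y ≅ (homologyFunctor C i).obj F) →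
      Φ ((singleFunctor C i).obj Y)) : Φ F := by
  obtain ⟨k, hk⟩ : ∃ k : ℕ, b ≤ lo - 1 + k := ⟨(b - lo + 1).toNat, by omega⟩
  induction k generalizing b F with
  | zero => exact hbase F fun i hi ↦ hb i (by omega)
  | succ k ih =>
    by_cases hlo : b < lo
    · exact hbase F fun i hi ↦ hb i (by omega)
    obtain ⟨F', a, p, c, hT, hz, hiso⟩ := exists_top_triangle F b hb
    refine hext _ hT (ih F' (b - 1) (fun i hi ↦ hz i (by omega)) (fun i h1 h2 Y ⟨eY⟩ ↦ ?_) (by omega))
      (h b (by omega) le_rfl _ ⟨Iso.refl _⟩)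
    have := hiso i (by omega)
    exact h i h1 (by omega) Y ⟨eY ≪≫ asIso ((homologyFunctor C i).map a)⟩

/-- Dévissage by terms. -/
theorem stupid_induction (Φ : DerivedCategory C → Prop)
    (hiso : ∀ {F G : DerivedCategory C}, (F ≅ G) → Φ F → Φ G)
    (hext : ∀ T : Triangle (DerivedCategory C), T ∈ distTriang _ → Φ T.obj₁ → Φ T.obj₃ → Φ T.obj₂)
    (lo : ℤ) (hbase : ∀ K : CochainComplex C ℤ, (∀ i, lo ≤ i → IsZero (K.X i)) → Φ (Q.obj K))
    (K : CochainComplex C ℤ) (b : ℤ) (hb : ∀ i, b < i → IsZero (K.X i))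
    (h : ∀ i, lo ≤ i → i ≤ b → ∀ Y : C, Nonempty (Y ≅ K.X i) → Φ ((singleFunctor C i).obj Y)) :
    Φ (Q.obj K) := by
  obtain ⟨k, hk⟩ : ∃ k : ℕ, b ≤ lo - 1 + k := ⟨(b - lo + 1).toNat, by omega⟩
  induction k generalizing b K with
  | zero => exact hbase K fun i hi ↦ hb i (by omega)
  | succ k ih =>
    by_cases hlo : b < lo
    · exact hbase K fun i hi ↦ hb i (by omega)
    let ι : (HomologicalComplex.single C (ComplexShape.up ℤ) b).obj (K.X b) ⟶ K :=
      HomologicalComplex.mkHomFromSingle (𝟙 _) fun j hj ↦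
        (hb j (by simp at hj; omega)).eq_of_tgt _ _
    have hι : ∀ i, Mono (ι.f i) := fun i ↦ by
      by_cases hi : i = b
      · subst hi
        simp only [ι, HomologicalComplex.mkHomFromSingle_f, Category.comp_id]
        infer_instance
      · exact ⟨fun {_} a b' _ ↦ (HomologicalComplex.isZero_single_obj_X (ComplexShape.up ℤ) b (K.X b) i hi).eq_of_tgt a b'⟩
    have : Mono ι := HomologicalComplex.mono_of_mono_f ι hι
    have hS : (ShortComplex.mk ι (cokernel.π ι) (cokernel.condition ι)).ShortExact :=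
      ShortComplex.ShortExact.mk' (ShortComplex.exact_cokernel ι) inferInstance inferInstance
    have hev := fun i ↦ hS.map_of_exact (HomologicalComplex.eval C (ComplexShape.up ℤ) i)
    have hne : ∀ i, i ≠ b → IsIso ((cokernel.π ι).f i) := fun i hi ↦
      (hev i).isIso_g_iff.2 (HomologicalComplex.isZero_single_obj_X (ComplexShape.up ℤ) b (K.X b) i hi)
    have hbz : IsZero ((cokernel ι : CochainComplex C ℤ).X b) := (hev b).isIso_f_iff.1 (by
      show IsIso (ι.f b)
      simp only [ι, HomologicalComplex.mkHomFromSingle_f, Category.comp_id]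
      infer_instance)
    refine hext _ (triangleOfSES_distinguished hS) ?_ (ih (cokernel ι) (b - 1) (fun i hi ↦ ?_)
      (fun i h1 h2 Y ⟨eY⟩ ↦ ?_) (by omega))
    · exact hiso (Iso.refl _) (h b (by omega) le_rfl _ ⟨Iso.refl _⟩)
    · by_cases hib : i = b
      · exact hib ▸ hbz
      · have := hne i hib
        exact (hb i (by omega)).of_iso (asIso ((cokernel.π ι).f i)).symm
    · have := hne i (by omega)
      exact h i h1 (by omega) Y ⟨eY ≪≫ (asIso ((cokernel.π ι).f i)).symm⟩

variable (P : ObjectProperty C) [P.IsClosedUnderIsomorphisms] [P.ContainsZero]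
  (hsum : ∀ X Y : C, P X → P Y → P (X ⨯ Y)) (hqs : PCoh.IsQuasiStableUnderKernels P)
  (hql : PCoh.IsQuasiLiftable P)

theorem pcn_single_of_single₀ {m : ℤ} (b : ℤ) {Y : C}
    (h : PCn P (m - b) ((singleFunctor C 0).obj Y)) : PCn P m ((singleFunctor C b).obj Y) := by
  have := pcn_shift P h (-b)
  rw [show m - b - -b = m by omega] at this
  exact pcn_of_iso P (((singleFunctors C).shiftIso (-b) b 0 (by omega)).app Y) this

include hsum hqs hql in
theorem pcn_of_homology {n : ℤ} (F : DerivedCategory C) (b : ℤ)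
    (hb : ∀ i, b < i → IsZero ((homologyFunctor C i).obj F))
    (h : ∀ i, n ≤ i → PCn P (n - i) ((singleFunctor C 0).obj ((homologyFunctor C i).obj F))) :
    PCn P n F :=
  homology_induction (PCn P n) (fun _ hT h₁ h₃ ↦ pcn_obj₂ P hsum hqs hql hT h₁ h₃) n
    (fun _ hF ↦ pcn_of_isZero_homology P hF) F b hb fun i hi _ Y ⟨eY⟩ ↦
      pcn_single_of_single₀ P i (pcn_of_iso P ((singleFunctor C 0).mapIso eY.symm) (h i hi))

include hsum hqs hql in
theorem pcn_of_terms {n : ℤ} (K : CochainComplex C ℤ) (b : ℤ) (hb : ∀ i, b < i → IsZero (K.X i))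
    (h : ∀ i, n ≤ i → PCn P (n - i) ((singleFunctor C 0).obj (K.X i))) : PCn P n (Q.obj K) :=
  stupid_induction (PCn P n) (fun e h ↦ pcn_of_iso P e h)
    (fun _ hT h₁ h₃ ↦ pcn_obj₂ P hsum hqs hql hT h₁ h₃) n
    (fun L hL ↦ ⟨L, isStrictPC_zero P n hL, ⟨Iso.refl _⟩⟩) K b hb fun i hi _ Y ⟨eY⟩ ↦
      pcn_single_of_single₀ P i (pcn_of_iso P ((singleFunctor C 0).mapIso eY.symm) (h i hi))

include hsum hqs hql in
theorem pcn_biprod_iff {n : ℤ} (F' F'' : DerivedCategory C) :
    PCn P n (F' ⊞ F'') ↔ PCn P n F' ∧ PCn P n F'' := by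
  refine ⟨fun h ↦ ?_, fun h ↦
    pcn_obj₂ P hsum hqs hql (binaryBiproductTriangle_distinguished F' F'') h.1 h.2⟩
  obtain ⟨b, hb⟩ := exists_isZero_homology_of_pcn P h
  obtain ⟨k, hk⟩ : ∃ k : ℕ, b ≤ n + k := ⟨(b - n).toNat, by omega⟩
  induction k generalizing n with
  | zero =>
    refine ⟨pcn_of_isZero_homology P fun i hi ↦ ?_, pcn_of_isZero_homology P fun i hi ↦ ?_⟩
    · exact IsZero.of_mono ((homologyFunctor C i).map (biprod.inl : F' ⟶ F' ⊞ F'')) (hb i (by omega))
    · exact IsZero.of_mono ((homologyFunctor C i).map (biprod.inr : F'' ⟶ F' ⊞ F'')) (hb i (by omega))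
  | succ k ih =>
    obtain ⟨h', h''⟩ := ih (pcn_mono P (by omega : n ≤ n + 1) h) (by omega)
    exact ⟨pcn_obj₃ P hsum hqs hql (binaryBiproductTriangle_distinguished F'' F') h''
        (pcn_of_iso P (biprod.braiding F' F'') h),
      pcn_obj₃ P hsum hqs hql (binaryBiproductTriangle_distinguished F' F'') h' h⟩

include hsum hqs hql in
theorem isQuasiStable_of_intermediate (P₁ : ObjectProperty C)
    (hpc : ∀ X : C, P₁ X → ∀ m, PCn P m ((singleFunctor C 0).obj X)) (K : CochainComplex C ℕ)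
    (hK : ∀ i, K.ExactAt i) (hfin : ∃ N : ℕ, ∀ i, N < i → IsZero (K.X i))
    (hP : ∀ i, 1 ≤ i → P₁ (K.X i)) :
    PCoh.IsOfFiniteType P (K.X 0) := by
  obtain ⟨N, hN⟩ := hfin
  have hz : ∀ d i, N + 1 ≤ i + d → 1 ≤ i →
      ∀ m, PCn P m ((singleFunctor C 0).obj (kernel (K.d i (i + 1)))) := by
    intro d
    induction d with
    | zero =>
      intro i hi _ m
      refine pcn_of_isZero_homology P fun j _ ↦ (homologyFunctor C j).map_isZero
        ((singleFunctor C 0).map_isZero ?_)
      exact IsZero.of_mono (kernel.ι (K.d i (i + 1))) (hN i (by omega))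
    | succ d ih =>
      intro i hi hi1 m
      let g : K.X i ⟶ kernel (K.d (i + 1) (i + 1 + 1)) := kernel.lift _ (K.d i (i + 1)) (K.d_comp_d _ _ _)
      have : Epi g := by
        rw [epi_iff_surjective_up_to_refinements]
        intro A a
        obtain ⟨A', p, _, x, hx⟩ := (HomologicalComplex.exactAt_iff_exact_up_to_refinements K i (i + 1)
          (i + 1 + 1) (by simp) (by simp)).1 (hK _) (a ≫ kernel.ι _) (by simp)
        exact ⟨A', p, inferInstance, x, by ext; simpa [g] using hx⟩
      have w : kernel.ι (K.d i (i + 1)) ≫ g = 0 := by ext; simp [g]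
      have hS : (ShortComplex.mk (kernel.ι (K.d i (i + 1))) g w).ShortExact := by
        refine ShortComplex.ShortExact.mk' (ShortComplex.exact_of_f_is_kernel _
          (KernelFork.IsLimit.ofι' _ _ fun k hk ↦ ⟨kernel.lift _ k ?_, kernel.lift_ι _ _ _⟩)) inferInstance this
        have := congrArg (· ≫ kernel.ι (K.d (i + 1) (i + 1 + 1))) hk
        simpa [g] using this
      have := pcn_obj₁ P hsum hqs hql (n := m - 1) hS.singleTriangle_distinguished
        (hpc _ (hP i hi1) _) (ih (i + 1) (by omega) (by omega) (m - 1))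
      rwa [sub_add_cancel] at this
  have hf : IsIso (kernel.lift (K.d 1 2) (K.d 0 1) (K.d_comp_d _ _ _)) := by
    have : Mono (K.d 0 1) := by
      refine Preadditive.mono_of_cancel_zero _ fun {A} a ha ↦ ?_
      obtain ⟨A', p, _, x, hx⟩ := (HomologicalComplex.exactAt_iff_exact_up_to_refinements K 0 0 1
        (by simp) (by simp)).1 (hK 0) a ha
      rw [K.shape 0 0 (by simp), comp_zero] at hx
      exact (cancel_epi p).1 (hx.trans comp_zero.symm)
    have : Mono (kernel.lift (K.d 1 2) (K.d 0 1) (K.d_comp_d _ _ _)) := by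
      have : Mono (kernel.lift (K.d 1 2) (K.d 0 1) (K.d_comp_d _ _ _) ≫ kernel.ι _) := by
        rwa [kernel.lift_ι]
      exact mono_of_mono _ (kernel.ι (K.d 1 2))
    have : Epi (kernel.lift (K.d 1 2) (K.d 0 1) (K.d_comp_d _ _ _)) := by
      rw [epi_iff_surjective_up_to_refinements]
      intro A a
      obtain ⟨A', p, _, x, hx⟩ := (HomologicalComplex.exactAt_iff_exact_up_to_refinements K 0 1 2
        (by simp) (by simp)).1 (hK 1) (a ≫ kernel.ι _) (by simp)
      exact ⟨A', p, inferInstance, x, by ext; simpa using hx⟩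
    exact isIso_of_mono_of_epi _
  have h0 : PCn P 0 ((singleFunctor C 0).obj (K.X 0)) :=
    pcn_of_iso P ((singleFunctor C 0).mapIso (asIso (kernel.lift (K.d 1 2) (K.d 0 1) (K.d_comp_d _ _ _))).symm)
      (hz (N + 1) 1 (by omega) le_rfl 0)
  exact isOfFiniteType_of_iso P (homologySingleIso 0 (K.X 0))
    (isOfFiniteType_of_pcn P hqs h0 fun i hi ↦ isZero_homology_single 0 i (by omega) _)

end GrothLib.PC
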