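import Groth.Agent.Lib.PC.Derived
import Mathlib.Algebra.Homology.HomologicalComplexLimits
import Mathlib.CategoryTheory.Limits.Constructions.EventuallyConstant
import Mathlib.CategoryTheory.Functor.OfSequence

/-!
# Strictly pseudo-coherent resolutions in all degrees
-/

universe w v u

open CategoryTheory CategoryTheory.Limits CategoryTheory.Pretriangulated DerivedCategory ZeroObject

namespace GrothLib.PC

variable {C : Type u} [Category.{v} C] [Abelian C] [HasDerivedCategory.{w} C]
  (P : ObjectProperty C) [P.IsClosedUnderIsomorphisms] [P.ContainsZero]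
  (hsum : ∀ X Y : C, P X → P Y → P (X ⨯ Y))
  (hqs : PCoh.IsQuasiStableUnderKernels P) (hql : PCoh.IsQuasiLiftable P)

/-- A stage of the resolution of `F`: everything is done down to degree `n`. -/
structure Stage (F : CochainComplex C ℤ) (n : ℤ) where
  E : CochainComplex C ℤ
  u : E ⟶ F
  strict : PCoh.IsStrictPCAll P E
  nqis : NQis u n

include hsum hqs hql in
theorem exists_next {F : CochainComplex C ℤ} (hF : ∀ m, Descends P m F) {n : ℤ}
    (S : Stage P F n) :
    ∃ (T : Stage P F (n - 1)) (v : S.E ⟶ T.E), v ≫ T.u = S.u ∧ (∀ i, Mono (v.f i)) ∧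
      ∀ i, i ≠ n - 1 → IsIso (v.f i) := by
  obtain ⟨E', v, u', hvu, hE', hn, hm, hi, hl⟩ := exists_descend P hsum hqs hql 1 (hF (n - 1)) S.u
    ⟨S.strict.1, fun i _ ↦ S.strict.2 i⟩ (by simpa using S.nqis)
  refine ⟨⟨E', u', ⟨hE'.1, fun i ↦ ?_⟩, hn⟩, v, hvu, hm, fun i hne ↦ ?_⟩
  · by_cases h : n - 1 ≤ i
    · exact hE'.2 i h
    · have := hl i (by omega)
      exact P.prop_of_iso (asIso (v.f i)) (S.strict.2 i)
  · by_cases h : n - 1 ≤ i
    · exact hi i (by omega)
    · exact hl i (by omega)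

include hsum hqs hql in
theorem exists_factor_all {F : CochainComplex C ℤ} (hF : ∀ m, Descends P m F) {n : ℤ}
    {E : CochainComplex C ℤ} (u : E ⟶ F) (hE : PCoh.IsStrictPCAll P E) (hu : NQis u n) :
    ∃ (E' : CochainComplex C ℤ) (v : E ⟶ E') (u' : E' ⟶ F), v ≫ u' = u ∧
      PCoh.IsStrictPCAll P E' ∧ QuasiIso u' ∧ (∀ j, Mono (v.f j)) ∧
      (∀ j, n ≤ j → IsIso (v.f j)) := by
  classical
  choose T v hvu hm hiso using fun (m : ℤ) (S : Stage P F m) ↦ exists_next P hsum hqs hql hF S
  let next : ∀ k : ℕ, Stage P F (n - k) → Stage P F (n - (k + 1 : ℕ)) :=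
    fun k S ↦ (show n - (k : ℤ) - 1 = n - (k + 1 : ℕ) by omega) ▸ T _ S
  let st : ∀ k : ℕ, Stage P F (n - k) := fun k ↦
    Nat.rec (motive := fun k ↦ Stage P F (n - (k : ℕ))) ⟨E, u, hE, by simpa using hu⟩ next k
  have hnext : ∀ k, ∃ w : (st k).E ⟶ (st (k + 1)).E, w ≫ (st (k + 1)).u = (st k).u ∧
      (∀ i, Mono (w.f i)) ∧ ∀ i, i ≠ n - k - 1 → IsIso (w.f i) := by
    intro k
    have key : ∀ (m : ℤ) (h : n - (k : ℤ) - 1 = m), ∃ w : (st k).E ⟶ (h ▸ T _ (st k) : Stage P F m).E,
        w ≫ (h ▸ T _ (st k) : Stage P F m).u = (st k).u ∧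
        (∀ i, Mono (w.f i)) ∧ ∀ i, i ≠ n - k - 1 → IsIso (w.f i) := by
      rintro m rfl
      exact ⟨v _ _, hvu _ _, hm _ _, hiso _ _⟩
    exact key _ _
  choose w hwu hwm hwi using hnext
  let S : ℕ ⥤ CochainComplex C ℤ := Functor.ofSequence w
  have hconst : ∀ j : ℤ,
      (S ⋙ HomologicalComplex.eval C (ComplexShape.up ℤ) j).IsEventuallyConstantFrom (n - j).toNat := by
    intro j
    have key : ∀ a b : ℕ, (n - j).toNat ≤ a → ∀ h : a ≤ b, IsIso ((S.map (homOfLE h)).f j) := by
      intro a b ha h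
      induction b, h using Nat.le_induction with
      | base => simp only [homOfLE_refl, CategoryTheory.Functor.map_id]; infer_instance
      | succ b hab ih =>
        have : homOfLE (Nat.le_succ_of_le hab) = homOfLE hab ≫ homOfLE (Nat.le_add_right b 1) := rfl
        rw [this, S.map_comp, HomologicalComplex.comp_f]
        have h2 : IsIso ((S.map (homOfLE (Nat.le_add_right b 1))).f j) := by
          rw [Functor.ofSequence_map_homOfLE_succ]
          exact hwi b j (by omega)
        exact IsIso.comp_isIso' ih h2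
    intro b φ
    exact key _ _ le_rfl (leOfHom φ)
  have : ∀ j, HasColimit (S ⋙ HomologicalComplex.eval C (ComplexShape.up ℤ) j) :=
    fun j ↦ (hconst j).hasColimit
  have hι : ∀ (j : ℤ) (k : ℕ), (n - j).toNat ≤ k → IsIso ((colimit.ι S k).f j) := fun j k hk ↦
    (hconst j).isIso_ι_of_isColimit' (isColimitOfPreserves
      (HomologicalComplex.eval C (ComplexShape.up ℤ) j) (colimit.isColimit S)) k (homOfLE hk)
  let c : Cocone S :=
    { pt := F
      ι := NatTrans.ofSequence (F := S) (G := (Functor.const ℕ).obj F) (fun k ↦ (st k).u) (fun k ↦ by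
        rw [Functor.ofSequence_map_homOfLE_succ]
        exact (hwu k).trans (Category.comp_id _).symm) }
  have hc : ∀ k, colimit.ι S k ≫ colimit.desc S c = (st k).u := fun k ↦ colimit.ι_desc c k
  refine ⟨colimit S, colimit.ι S 0, colimit.desc S c, hc 0, ⟨?_, fun j ↦ ?_⟩, ⟨fun i ↦ ?_⟩,
    fun j ↦ ?_, fun j hj ↦ hι j 0 (by omega)⟩
  · obtain ⟨b, hb⟩ := hE.1
    refine ⟨max b n, fun i hi ↦ ?_⟩
    have := hι i 0 (by omega)
    exact (show IsZero ((S.obj 0).X i) from hb i (by omega)).of_iso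
      (asIso ((colimit.ι S 0).f i)).symm
  · have := hι j (n - j).toNat le_rfl
    exact P.prop_of_iso (asIso ((colimit.ι S (n - j).toNat).f j)) ((st _).strict.2 j)
  · rw [quasiIsoAt_iff_isIso_homologyMap]
    let k := (n - i).toNat + 2
    have h0 := hι (i - 1) k (by omega)
    have h1 := hι i k (by omega)
    have h2 := hι (i + 1) k (by omega)
    have hq : QuasiIsoAt (colimit.ι S k) i := by
      rw [quasiIsoAt_iff' _ (i - 1) i (i + 1) (by simp) (by simp)]
      let φ := (HomologicalComplex.shortComplexFunctor' C (ComplexShape.up ℤ) (i - 1) i (i + 1)).map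
        (colimit.ι S k)
      have : IsIso φ.τ₁ := h0
      have : IsIso φ.τ₂ := h1
      have : IsIso φ.τ₃ := h2
      exact ShortComplex.quasiIso_of_epi_of_isIso_of_mono φ
    have h3 : IsIso (HomologicalComplex.homologyMap (st k).u i) :=
      ((nqis_iff _ _).1 (st k).nqis).1 i (by omega)
    rw [quasiIsoAt_iff_isIso_homologyMap] at hq
    have h5 : IsIso (HomologicalComplex.homologyMap (colimit.ι S k) i ≫
        HomologicalComplex.homologyMap (colimit.desc S c) i) := by
      have h4 := HomologicalComplex.homologyMap_comp (colimit.ι S k) (colimit.desc S c) i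
      exact h4 ▸ (hc k).symm ▸ h3
    exact IsIso.of_isIso_comp_left (HomologicalComplex.homologyMap (colimit.ι S k) i) _
  · have hk := hι j (n - j).toNat le_rfl
    have hmono : ∀ k, Mono ((S.map (homOfLE (Nat.zero_le k))).f j) := by
      intro k
      induction k with
      | zero => simp only [homOfLE_refl, CategoryTheory.Functor.map_id]; infer_instance
      | succ k ih =>
        have : homOfLE (Nat.zero_le (k + 1)) =
            homOfLE (Nat.zero_le k) ≫ homOfLE (Nat.le_add_right k 1) := rfl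
        rw [this, S.map_comp, HomologicalComplex.comp_f, Functor.ofSequence_map_homOfLE_succ]
        have := hwm k j
        exact mono_comp' ih this
    rw [← colimit.w S (homOfLE (Nat.zero_le (n - j).toNat)), HomologicalComplex.comp_f]
    exact mono_comp' (hmono _) inferInstance

include hsum hqs hql in
theorem exists_strictAll_resolution {F : CochainComplex C ℤ} (hF : ∀ m, PCn P m (Q.obj F)) (m : ℤ)
    (h : ∀ i, m ≤ i → IsZero ((homologyFunctor C i).obj (Q.obj F))) :
    ∃ (F' : CochainComplex C ℤ) (s : F' ⟶ F), PCoh.IsStrictPCAll P F' ∧ QuasiIso s ∧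
      ∀ i, m ≤ i → IsZero (F'.X i) := by
  obtain ⟨E', v, u', -, hE', hq, -, hi⟩ := exists_factor_all P hsum hqs hql
    (fun j ↦ descends_of_pcn P hsum hqs hql (hF j)) (fromZero F)
    ⟨⟨0, fun i _ ↦ isZero_zero_X i⟩, fun i ↦ P.prop_of_isZero (isZero_zero_X i)⟩
    (nqis_fromZero F h)
  refine ⟨E', u', hE', hq, fun i hi' ↦ ?_⟩
  have := hi i hi'
  exact (isZero_zero_X i).of_iso (asIso (v.f i)).symm

include hsum hqs hql in
theorem exists_strictAll_quasiIso {F : CochainComplex C ℤ} (hF : ∀ m, PCn P m (Q.obj F)) :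
    ∃ (F' : CochainComplex C ℤ) (s : F' ⟶ F), PCoh.IsStrictPCAll P F' ∧ QuasiIso s := by
  obtain ⟨b, hb⟩ := exists_isZero_homology_of_pcn P (hF 0)
  obtain ⟨F', s, h1, h2, -⟩ := exists_strictAll_resolution P hsum hqs hql hF b hb
  exact ⟨F', s, h1, h2⟩

end GrothLib.PC
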