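import Groth.Agent.Lib.PC.Devissage
import Groth.Agent.Lib.PC.Limit
import Mathlib.CategoryTheory.Localization.CalculusOfFractions

/-!
# Consequences: coherent homology, equality of maps, perfect approximations
-/

universe w v u

open CategoryTheory CategoryTheory.Limits CategoryTheory.Pretriangulated DerivedCategory ZeroObject

namespace GrothLib.PC

variable {C : Type u} [Category.{v} C] [Abelian C] [HasDerivedCategory.{w} C]
  (P : ObjectProperty C) [P.IsClosedUnderIsomorphisms] [P.ContainsZero]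

theorem pcn_single_of_mem {X : C} (hX : P X) (m : ℤ) : PCn P m ((singleFunctor C 0).obj X) := by
  refine ⟨(HomologicalComplex.single C (ComplexShape.up ℤ) 0).obj X,
    ⟨⟨0, fun i hi ↦ HomologicalComplex.isZero_single_obj_X _ _ _ _ (by omega)⟩, fun i _ ↦ ?_⟩,
    ⟨Iso.refl _⟩⟩
  by_cases h : i = 0
  · subst h
    exact P.prop_of_iso (HomologicalComplex.singleObjXSelf _ _ _).symm hX
  · exact P.prop_of_isZero (HomologicalComplex.isZero_single_obj_X _ _ _ _ h)

theorem exists_quasiIso_homotopy {E E' : CochainComplex C ℤ} (f g : E ⟶ E')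
    (h : Q.map f = Q.map g) :
    ∃ (X : CochainComplex C ℤ) (s : X ⟶ E), QuasiIso s ∧ Nonempty (Homotopy (s ≫ f) (s ≫ g)) := by
  have h' : Qh.map ((HomotopyCategory.quotient C (ComplexShape.up ℤ)).map f) =
      Qh.map ((HomotopyCategory.quotient C (ComplexShape.up ℤ)).map g) := by
    rw [← cancel_mono ((quotientCompQhIso C).hom.app E'), quotientCompQhIso_hom_naturality,
      quotientCompQhIso_hom_naturality, h]
  obtain ⟨X, s, hs, heq⟩ := (MorphismProperty.map_eq_iff_precomp Qh
    (HomotopyCategory.quasiIso C (ComplexShape.up ℤ)) _ _).1 h'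
  obtain ⟨X, rfl⟩ := HomotopyCategory.quotient_obj_surjective X
  obtain ⟨s, rfl⟩ := (HomotopyCategory.quotient _ _).map_surjective s
  rw [← isIso_Qh_map_iff] at hs
  refine ⟨X, s, ?_, ⟨HomotopyCategory.homotopyOfEq _ _ (by simpa using heq)⟩⟩
  rw [← isIso_Q_map_iff_quasiIso C]
  have : IsIso ((quotientCompQhIso C).hom.app X ≫ Q.map s) := by
    rw [← quotientCompQhIso_hom_naturality]
    exact IsIso.comp_isIso' hs inferInstance
  exact IsIso.of_isIso_comp_left ((quotientCompQhIso C).hom.app X) _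

variable (hsum : ∀ X Y : C, P X → P Y → P (X ⨯ Y))
  (hqs : PCoh.IsQuasiStableUnderKernels P) (hql : PCoh.IsQuasiLiftable P)

include hsum hqs hql in
theorem exists_nIso_from_perfect {n : ℤ} {F : DerivedCategory C} (h : PCn P n F) :
    ∃ (E : CochainComplex C ℤ) (a b : ℤ) (α : Q.obj E ⟶ F),
      (∀ i : ℤ, i < a ∨ b < i → IsZero (E.X i)) ∧ (∀ i : ℤ, P (E.X i)) ∧
      (∀ i : ℤ, n < i → IsIso ((homologyFunctor C i).map α)) ∧
      Epi ((homologyFunctor C n).map α) := by
  obtain ⟨b, hb⟩ := exists_isZero_homology_of_pcn P h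
  obtain ⟨G, hG, ⟨e⟩⟩ := h
  obtain ⟨k, hk⟩ : ∃ k : ℕ, b ≤ n + k := ⟨(b - n).toNat, by omega⟩
  obtain ⟨E, v, u, -, hE, hn, -, hi, hl⟩ := exists_descend P hsum hqs hql k
    (descends_of_pcn P hsum hqs hql ⟨G, hG, ⟨Iso.refl _⟩⟩) (fromZero G)
    (isStrictPC_zero P n fun i _ ↦ isZero_zero_X i)
    (nqis_fromZero G fun i hi ↦ (hb i (by omega)).of_iso ((homologyFunctor C i).mapIso e))
  obtain ⟨c, hc⟩ := hE.1
  have hlow : ∀ i, i < n → IsZero (E.X i) := fun i hi ↦ by
    have := hl i hi
    exact (isZero_zero_X i).of_iso (asIso (v.f i)).symm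
  refine ⟨E, n, c, Q.map u ≫ e.hom, fun i hi ↦ hi.elim (hlow i) (hc i), fun i ↦ ?_, fun i hi ↦ ?_, ?_⟩
  · by_cases hin : n ≤ i
    · exact hE.2 i hin
    · exact P.prop_of_isZero (hlow i (by omega))
  · have := ((nqis_iff_derived u n).1 hn).1 i hi
    rw [Functor.map_comp]
    infer_instance
  · have := ((nqis_iff_derived u n).1 hn).2
    rw [Functor.map_comp]
    exact epi_comp _ _

include hsum hqs hql in
theorem pcn_of_nIso {n : ℤ} {F : DerivedCategory C} {E : CochainComplex C ℤ}
    (hE : PCoh.IsStrictPC P n E) (α : Q.obj E ⟶ F)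
    (h₁ : ∀ i : ℤ, n < i → IsIso ((homologyFunctor C i).map α))
    (h₂ : Epi ((homologyFunctor C n).map α)) : PCn P n F := by
  let G := Q.objPreimage F
  let e : Q.obj G ≅ F := Q.objObjPreimageIso F
  obtain ⟨X, s, hs, g, hg⟩ := right_fac (α ≫ e.inv)
  have : QuasiIso s := (isIso_Q_map_iff_quasiIso C s).1 hs
  obtain ⟨X', t, hX', ht⟩ := exists_strict_to_of_quasiIso P hsum hqs hql s hE
  have : IsIso (Q.map t) := (isIso_Q_map_iff_quasiIso C t).2 ht
  have hu : Q.map (t ≫ g) = (Q.map t ≫ Q.map s) ≫ α ≫ e.inv := by simp [hg]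
  have hn : NQis (t ≫ g) n := by
    rw [nqis_iff_derived]
    refine ⟨fun i hi ↦ ?_, ?_⟩
    · have := h₁ i hi
      rw [hu]
      simp only [Functor.map_comp]
      infer_instance
    · rw [hu]
      simp only [Functor.map_comp]
      infer_instance
  obtain ⟨E', v, u', -, hq, -, hi⟩ := exists_factor (t ≫ g) n hn
  exact ⟨E', isStrictPC_of_isIso P v hX' hi, ⟨asIso (Q.map u') ≪≫ e⟩⟩

variable (hcoh : ∀ (X E : C) (u : E ⟶ X), P X → P E → PCoh.IsOfFiniteType P (kernel u))

include hcoh in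
theorem coherent_of_mem {X : C} (hX : P X) : Coherent P X :=
  ⟨⟨X, 𝟙 X, hX, inferInstance⟩, fun E u hE ↦ hcoh X E u hX hE⟩

include hcoh in
theorem isQuasiStable_of_coherent : PCoh.IsQuasiStableUnderKernels P := by
  intro K hK _ hP
  have h := coherent_kernel P (K.d 1 2) (coherent_of_mem P hcoh (hP 1 le_rfl))
    (coherent_of_mem P hcoh (hP 2 (by omega))).2
  let l := kernel.lift (K.d 1 2) (K.d 0 1) (K.d_comp_d _ _ _)
  have hl : IsIso l := by
    have : Mono (K.d 0 1) := by
      refine Preadditive.mono_of_cancel_zero _ fun {A} a ha ↦ ?_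
      obtain ⟨A', p, _, x, hx⟩ := (HomologicalComplex.exactAt_iff_exact_up_to_refinements K 0 0 1
        (by simp) (by simp)).1 (hK 0) a ha
      rw [K.shape 0 0 (by simp), comp_zero] at hx
      exact (cancel_epi p).1 (hx.trans comp_zero.symm)
    have : Mono l := by
      have : Mono (l ≫ kernel.ι _) := by simpa [l] using ‹Mono (K.d 0 1)›
      exact mono_of_mono _ (kernel.ι (K.d 1 2))
    have : Epi l := by
      rw [epi_iff_surjective_up_to_refinements]
      intro A a
      obtain ⟨A', p, _, x, hx⟩ := (HomologicalComplex.exactAt_iff_exact_up_to_refinements K 0 1 2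
        (by simp) (by simp)).1 (hK 1) (a ≫ kernel.ι _) (by simp)
      exact ⟨A', p, inferInstance, x, by ext; simpa [l] using hx⟩
    exact isIso_of_mono_of_epi _
  exact isOfFiniteType_of_iso P (asIso l).symm h.1

include hsum hql hcoh in
theorem pcn_of_coherent_obj {H : C} (hH : Coherent P H) (m : ℤ) :
    PCn P m ((singleFunctor C 0).obj H) := by
  have hqs := isQuasiStable_of_coherent P hcoh
  obtain ⟨k, hk⟩ : ∃ k : ℕ, -(k : ℤ) ≤ m := ⟨(-m).toNat, by omega⟩
  refine pcn_mono P hk ?_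
  clear hk
  induction k generalizing H with
  | zero =>
    exact (pcn_iff_isOfFiniteType P hsum hqs hql fun i hi ↦ isZero_homology_single 0 i (by omega) H).2
      (isOfFiniteType_of_iso P (homologySingleIso 0 H).symm hH.1)
  | succ k ih =>
    obtain ⟨Q₀, π, hQ₀, hπ⟩ := hH.1
    have hS : (ShortComplex.mk (kernel.ι π) π (kernel.condition π)).ShortExact :=
      ShortComplex.ShortExact.mk' (ShortComplex.exact_of_f_is_kernel _ (kernelIsKernel π))
        inferInstance hπ
    refine pcn_obj₃ P hsum hqs hql hS.singleTriangle_distinguished ?_ (pcn_single_of_mem P hQ₀ _)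
    exact pcn_mono P (by omega) (ih (coherent_kernel P π (coherent_of_mem P hcoh hQ₀) hH.2))

include hsum hql hcoh in
theorem pcn_iff_coherent_homology {n : ℤ} {F : DerivedCategory C} {b : ℤ}
    (hb : ∀ i, b < i → IsZero ((homologyFunctor C i).obj F)) :
    PCn P n F ↔ (PCoh.IsOfFiniteType P ((homologyFunctor C n).obj F) ∧
      ∀ i : ℤ, n < i → Coherent P ((homologyFunctor C i).obj F)) := by
  have hqs := isQuasiStable_of_coherent P hcoh
  constructor
  · rintro ⟨E, hE, ⟨e⟩⟩
    have hc : ∀ i, n ≤ i → Coherent P (E.X i) := fun i hi ↦ coherent_of_mem P hcoh (hE.2 i hi)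
    have hZ : ∀ i, n ≤ i → Coherent P (E.cycles i) := fun i hi ↦
      ⟨isOfFiniteType_of_exact P (ShortComplex.mk (E.iCycles i) (E.d i (i + 1)) (E.iCycles_d _ _))
          (ShortComplex.exact_of_f_is_kernel _ (E.cyclesIsKernel i (i + 1) (by simp))) (hc i hi).1
          (hc (i + 1) (by omega)).2,
        precoh_of_mono P (E.iCycles i) (hc i hi).2⟩
    have : ∀ i, Epi (E.homologyπ i) := fun i ↦ inferInstanceAs (Epi (E.sc i).homologyπ)
    refine ⟨isOfFiniteType_of_iso P (((homologyFunctorFactors C n).app E).symm ≪≫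
      (homologyFunctor C n).mapIso e) ((isOfFiniteType_of_epi P (E.homologyπ n) (hZ n le_rfl).1 :)),
      fun i hi ↦ coherent_of_iso P (((homologyFunctorFactors C i).app E).symm ≪≫
        (homologyFunctor C i).mapIso e) ⟨(isOfFiniteType_of_epi P (E.homologyπ i) (hZ i hi.le).1 :), ?_⟩⟩
    exact precoh_of_exact P hsum hql
      (ShortComplex.mk (E.toCycles (i - 1) i) (E.homologyπ i) (E.toCycles_comp_homologyπ _ _))
      (ShortComplex.exact_of_g_is_cokernel _ (E.homologyIsCokernel (i - 1) i (by simp)))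
      (hc (i - 1) (by omega)).1 (hZ i hi.le).2
  · rintro ⟨h₁, h₂⟩
    refine pcn_of_homology P hsum hqs hql F b hb fun i hi ↦ ?_
    rcases hi.lt_or_eq with hi | rfl
    · exact pcn_of_coherent_obj P hsum hql hcoh (h₂ i hi) _
    · rw [sub_self]
      exact (pcn_iff_isOfFiniteType P hsum hqs hql fun i hi ↦
        isZero_homology_single 0 i (by omega) _).2 (isOfFiniteType_of_iso P (homologySingleIso 0 _).symm h₁)

end GrothLib.PC
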