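import Groth.Prelude.Def_PCoh
import Mathlib.Algebra.Homology.HomotopyCategory.MappingCone
import Mathlib.Algebra.Homology.Refinements
import Mathlib.Algebra.Homology.SingleHomology
import Mathlib.Algebra.Homology.Embedding.CochainComplex

/-!
# Enlarging the source of a map of complexes along a map into its mapping cone
-/

universe v u

open CategoryTheory CategoryTheory.Limits CochainComplex

namespace GrothLib.PC

variable {C : Type u} [Category.{v} C] [Abelian C] {E F : CochainComplex C ℤ} (u : E ⟶ F)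

/-- `u` is an `n`-quasi-isomorphism, in cone form. -/
def NQis (n : ℤ) : Prop := ∀ j : ℤ, n ≤ j → (mappingCone u).ExactAt j

/-- The `fst` coordinate of an element of the cone. -/
noncomputable abbrev cfst (j k : ℤ) (h : j + 1 = k) : (mappingCone u).X j ⟶ E.X k :=
  (mappingCone.fst u).1.v j k h

/-- The `snd` coordinate of an element of the cone. -/
noncomputable abbrev csnd (j : ℤ) : (mappingCone u).X j ⟶ F.X j :=
  (mappingCone.snd u).v j j (add_zero j)

/-- An element of the cone from its coordinates. -/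
noncomputable def pair {A : C} {j k : ℤ} (h : j + 1 = k) (a : A ⟶ E.X k) (b : A ⟶ F.X j) :
    A ⟶ (mappingCone u).X j :=
  a ≫ (mappingCone.inl u).v k j (by omega) + b ≫ (mappingCone.inr u).f j

@[simp]
theorem pair_fst {A : C} {j k : ℤ} (h : j + 1 = k) (a : A ⟶ E.X k) (b : A ⟶ F.X j) :
    pair u h a b ≫ cfst u j k h = a := by
  simp [pair]

@[simp]
theorem pair_snd {A : C} {j k : ℤ} (h : j + 1 = k) (a : A ⟶ E.X k) (b : A ⟶ F.X j) :
    pair u h a b ≫ csnd u j = b := by
  simp [pair]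

theorem comp_d_fst {A : C} {i j k : ℤ} (hij : i + 1 = j) (hjk : j + 1 = k)
    (x : A ⟶ (mappingCone u).X i) :
    (x ≫ (mappingCone u).d i j) ≫ cfst u j k hjk = -((x ≫ cfst u i j hij) ≫ E.d j k) := by
  simp [mappingCone.d_fst_v u i j k hij hjk]

theorem comp_d_snd {A : C} {i j : ℤ} (hij : i + 1 = j) (x : A ⟶ (mappingCone u).X i) :
    (x ≫ (mappingCone u).d i j) ≫ csnd u j =
      (x ≫ cfst u i j hij) ≫ u.f j + (x ≫ csnd u i) ≫ F.d i j := by
  simp [mappingCone.d_snd_v u i j hij, Preadditive.comp_add]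

theorem exactAt_iff {K : CochainComplex C ℤ} (i j k : ℤ) (hij : i + 1 = j) (hjk : j + 1 = k) :
    K.ExactAt j ↔ ∀ ⦃A : C⦄ (x₂ : A ⟶ K.X j) (_ : x₂ ≫ K.d j k = 0),
      ∃ (A' : C) (π : A' ⟶ A) (_ : Epi π) (x₁ : A' ⟶ K.X i), π ≫ x₂ = x₁ ≫ K.d i j :=
  HomologicalComplex.exactAt_iff_exact_up_to_refinements K i j k (by simp; omega) (by simp; omega)

theorem mono_iff {K L : CochainComplex C ℤ} (φ : K ⟶ L) (i j k : ℤ) (hij : i + 1 = j)
    (hjk : j + 1 = k) :
    Mono (HomologicalComplex.homologyMap φ j) ↔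
      ∀ ⦃A : C⦄ (x₂ : A ⟶ K.X j) (_ : x₂ ≫ K.d j k = 0) (y₁ : A ⟶ L.X i)
          (_ : x₂ ≫ φ.f j = y₁ ≫ L.d i j),
        ∃ (A' : C) (π : A' ⟶ A) (_ : Epi π) (x₁ : A' ⟶ K.X i), π ≫ x₂ = x₁ ≫ K.d i j :=
  HomologicalComplex.mono_homologyMap_iff_up_to_refinements φ i j k (by simp; omega) (by simp; omega)

theorem epi_iff {K L : CochainComplex C ℤ} (φ : K ⟶ L) (i j k : ℤ) (hij : i + 1 = j)
    (hjk : j + 1 = k) :
    Epi (HomologicalComplex.homologyMap φ j) ↔
      ∀ ⦃A : C⦄ (y₂ : A ⟶ L.X j) (_ : y₂ ≫ L.d j k = 0),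
        ∃ (A' : C) (π : A' ⟶ A) (_ : Epi π) (x₂ : A' ⟶ K.X j) (_ : x₂ ≫ K.d j k = 0)
          (y₁ : A' ⟶ L.X i), π ≫ y₂ = x₂ ≫ φ.f j + y₁ ≫ L.d i j :=
  HomologicalComplex.epi_homologyMap_iff_up_to_refinements φ i j k (by simp; omega) (by simp; omega)

theorem exactAt_cone_of_mono_epi {j k : ℤ} (hjk : j + 1 = k)
    (hm : Mono (HomologicalComplex.homologyMap u k))
    (he : Epi (HomologicalComplex.homologyMap u j)) : (mappingCone u).ExactAt j := by
  rw [exactAt_iff (j - 1) j k (by omega) hjk]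
  intro A x hx
  have h₁ : (x ≫ cfst u j k hjk) ≫ E.d k (k + 1) = 0 := by
    have := congrArg (· ≫ cfst u k (k + 1) rfl) hx
    simp only [comp_d_fst u hjk rfl, zero_comp, neg_eq_zero] at this
    exact this
  have h₂ : (x ≫ cfst u j k hjk) ≫ u.f k = (-(x ≫ csnd u j)) ≫ F.d j k := by
    have := congrArg (· ≫ csnd u k) hx
    simp only [comp_d_snd u hjk, zero_comp] at this
    rw [Preadditive.neg_comp]
    exact eq_neg_of_add_eq_zero_left this
  obtain ⟨A₁, π₁, _, e, he'⟩ := (mono_iff u j k (k + 1) hjk rfl).1 hm _ h₁ _ h₂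
  have h₃ : (π₁ ≫ x ≫ csnd u j + e ≫ u.f j) ≫ F.d j k = 0 := by
    rw [Preadditive.add_comp, Category.assoc π₁, Category.assoc e, u.comm, ← Category.assoc e, ← he',
      Category.assoc π₁, h₂, ← Preadditive.comp_add, Preadditive.neg_comp, add_neg_cancel, comp_zero]
  obtain ⟨A₂, π₂, _, c, hc, b, hb⟩ := (epi_iff u (j - 1) j k (by omega) hjk).1 he _ h₃
  refine ⟨A₂, π₂ ≫ π₁, inferInstance, pair u (show j - 1 + 1 = j by omega) (c - π₂ ≫ e) b, ?_⟩
  refine mappingCone.ext_to u j k hjk ?_ ?_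
  · refine Eq.trans ?_ (comp_d_fst u (show j - 1 + 1 = j by omega) hjk _).symm
    rw [pair_fst, Preadditive.sub_comp, hc, zero_sub, neg_neg, Category.assoc π₂ e, ← he']
    simp
  · refine Eq.trans ?_ (comp_d_snd u (show j - 1 + 1 = j by omega) _).symm
    rw [pair_fst, pair_snd, Preadditive.sub_comp, Category.assoc π₂ e]
    rw [Preadditive.comp_add, ← eq_sub_iff_add_eq] at hb
    simp only [Category.assoc]
    rw [hb]
    abel

theorem epi_homologyMap_of_exactAt {j : ℤ} (h : (mappingCone u).ExactAt j) :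
    Epi (HomologicalComplex.homologyMap u j) := by
  rw [epi_iff u (j - 1) j (j + 1) (by omega) rfl]
  intro A y hy
  obtain ⟨A', π, _, x, hx⟩ := (exactAt_iff (j - 1) j (j + 1) (by omega) rfl).1 h
    (pair u (rfl : j + 1 = j + 1) 0 y) (mappingCone.ext_to u (j + 1) (j + 1 + 1) rfl
      ((comp_d_fst u rfl rfl _).trans (by simp)) ((comp_d_snd u rfl _).trans (by simpa using hy)))
  have h₁ := congrArg (· ≫ cfst u j (j + 1) rfl) hx
  have h₂ := congrArg (· ≫ csnd u j) hx
  simp only [comp_d_fst u (show j - 1 + 1 = j by omega) rfl, Category.assoc π, pair_fst, comp_zero] at h₁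
  simp only [comp_d_snd u (show j - 1 + 1 = j by omega), Category.assoc π, pair_snd] at h₂
  exact ⟨A', π, inferInstance, _, neg_eq_zero.1 h₁.symm, _, h₂⟩

theorem mono_homologyMap_of_exactAt {j k : ℤ} (hjk : j + 1 = k) (h : (mappingCone u).ExactAt j) :
    Mono (HomologicalComplex.homologyMap u k) := by
  rw [mono_iff u j k (k + 1) hjk rfl]
  intro A a ha b hb
  obtain ⟨A', π, _, x, hx⟩ := (exactAt_iff (j - 1) j k (by omega) hjk).1 h (pair u hjk a (-b))
    (mappingCone.ext_to u k (k + 1) rfl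
      ((comp_d_fst u hjk rfl _).trans (by simpa using ha))
      ((comp_d_snd u hjk _).trans (by simp [hb])))
  have h₁ := congrArg (· ≫ cfst u j k hjk) hx
  simp only [comp_d_fst u (show j - 1 + 1 = j by omega) hjk, Category.assoc π, pair_fst] at h₁
  exact ⟨A', π, inferInstance, -(x ≫ cfst u (j - 1) j (by omega)),
    h₁.trans (Preadditive.neg_comp _ _).symm⟩

theorem nqis_iff (n : ℤ) :
    NQis u n ↔ (∀ i : ℤ, n < i → IsIso (HomologicalComplex.homologyMap u i)) ∧
      Epi (HomologicalComplex.homologyMap u n) := by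
  constructor
  · intro h
    refine ⟨fun i hi ↦ ?_, epi_homologyMap_of_exactAt u (h n le_rfl)⟩
    have := epi_homologyMap_of_exactAt u (h i hi.le)
    have := mono_homologyMap_of_exactAt u (show i - 1 + 1 = i by omega) (h (i - 1) (by omega))
    exact isIso_of_mono_of_epi _
  · rintro ⟨hiso, hepi⟩ j hj
    have := hiso (j + 1) (by omega)
    refine exactAt_cone_of_mono_epi u rfl inferInstance ?_
    rcases hj.lt_or_eq with hj | rfl
    · have := hiso j hj
      infer_instance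
    · exact hepi

theorem quasiIso_iff_forall_exactAt : QuasiIso u ↔ ∀ j, (mappingCone u).ExactAt j := by
  constructor
  · intro h j
    have : ∀ i, IsIso (HomologicalComplex.homologyMap u i) := fun i ↦
      (quasiIsoAt_iff_isIso_homologyMap u i).1 inferInstance
    exact exactAt_cone_of_mono_epi u rfl inferInstance inferInstance
  · intro h
    refine ⟨fun i ↦ (quasiIsoAt_iff_isIso_homologyMap u i).2 ?_⟩
    have := epi_homologyMap_of_exactAt u (h i)
    have := mono_homologyMap_of_exactAt u (show i - 1 + 1 = i by omega) (h (i - 1))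
    exact isIso_of_mono_of_epi _

variable {K : CochainComplex C ℤ} (κ : K ⟶ mappingCone u)

/-- The differential of `enlarge`. -/
noncomputable def enlargeD (i j : ℤ) : E.X i ⊞ K.X i ⟶ E.X j ⊞ K.X j :=
  if h : i + 1 = j then
    biprod.lift (biprod.fst ≫ E.d i j - biprod.snd ≫ κ.f i ≫ cfst u i j h) (biprod.snd ≫ K.d i j)
  else 0

/-- `E` enlarged by `K` along `κ : K ⟶ cone u`. -/
@[reducible] noncomputable def enlarge : CochainComplex C ℤ where
  X i := E.X i ⊞ K.X i
  d i j := enlargeD u κ i j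
  shape i j h := dif_neg h
  d_comp_d' i j k hij hjk := by
    obtain rfl : i + 1 = j := hij
    obtain rfl : i + 1 + 1 = k := hjk
    rw [enlargeD, enlargeD, dif_pos rfl, dif_pos rfl]
    ext <;> simp
    rw [← κ.comm_assoc, mappingCone.d_fst_v u i (i + 1) (i + 1 + 1) rfl rfl]
    simp

theorem enlargeD_eq {i j : ℤ} (h : i + 1 = j) :
    enlargeD u κ i j =
      biprod.lift (biprod.fst ≫ E.d i j - biprod.snd ≫ κ.f i ≫ cfst u i j h)
        (biprod.snd ≫ K.d i j) :=
  dif_pos h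

theorem enlarge_d {i j : ℤ} (h : i + 1 = j) :
    (enlarge u κ).d i j =
      (biprod.lift (biprod.fst ≫ E.d i j - biprod.snd ≫ κ.f i ≫ cfst u i j h)
        (biprod.snd ≫ K.d i j) : E.X i ⊞ K.X i ⟶ E.X j ⊞ K.X j) := by
  exact dif_pos h

/-- The inclusion of `E`. -/
noncomputable def enlargeι : E ⟶ enlarge u κ where
  f i := (biprod.inl : E.X i ⟶ E.X i ⊞ K.X i)
  comm' i j h := by
    rw [enlarge_d u κ h]
    apply biprod.hom_ext <;> simp [enlarge]

/-- The extension of `u`. -/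
noncomputable def enlargeπ : enlarge u κ ⟶ F where
  f i := (biprod.desc (u.f i) (κ.f i ≫ csnd u i) : E.X i ⊞ K.X i ⟶ F.X i)
  comm' i j h := by
    rw [enlarge_d u κ h]
    apply biprod.hom_ext' <;> simp [enlarge]
    rw [← κ.comm_assoc, mappingCone.d_snd_v u i j h]
    simp [Preadditive.comp_add]

@[simp]
theorem enlargeι_π : enlargeι u κ ≫ enlargeπ u κ = u := by
  ext i
  exact biprod.inl_desc _ _

theorem enlargeπ_f (i : ℤ) :
    (enlargeπ u κ).f i = (biprod.desc (u.f i) (κ.f i ≫ csnd u i) : E.X i ⊞ K.X i ⟶ F.X i) :=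
  rfl

theorem mono_enlargeι_f (i : ℤ) : Mono ((enlargeι u κ).f i) :=
  inferInstanceAs (Mono (biprod.inl : E.X i ⟶ E.X i ⊞ K.X i))

theorem isIso_enlargeι_f {i : ℤ} (h : IsZero (K.X i)) : IsIso ((enlargeι u κ).f i) := by
  refine ⟨⟨(biprod.fst : E.X i ⊞ K.X i ⟶ E.X i), biprod.inl_fst, ?_⟩⟩
  apply biprod.hom_ext' <;> [skip; exact h.eq_of_src _ _]
  simp [enlargeι, enlarge]

theorem exactAt_cone_enlarge {j k : ℤ} (hjk : j + 1 = k)
    (hm : Mono (HomologicalComplex.homologyMap κ k))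
    (he : Epi (HomologicalComplex.homologyMap κ j)) :
    (mappingCone (enlargeπ u κ)).ExactAt j := by
  rw [exactAt_iff (j - 1) j k (by omega) hjk]
  set u' := enlargeπ u κ with hu'
  intro A x hx
  let a : A ⟶ E.X k ⊞ K.X k := x ≫ cfst u' j k hjk
  have h₁ : a ≫ (enlarge u κ).d k (k + 1) = 0 := by
    have := congrArg (· ≫ cfst u' k (k + 1) rfl) hx
    simp only [comp_d_fst u' hjk rfl, zero_comp, neg_eq_zero] at this
    exact this
  have h₂ : a ≫ u'.f k + (x ≫ csnd u' j) ≫ F.d j k = 0 := by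
    have := congrArg (· ≫ csnd u' k) hx
    simp only [comp_d_snd u' hjk, zero_comp] at this
    exact this
  obtain ⟨e, q, ha⟩ : ∃ e q, a = biprod.lift e q :=
    ⟨a ≫ biprod.fst, a ≫ biprod.snd, biprod.hom_ext _ _ (by simp) (by simp)⟩
  have hq : q ≫ K.d k (k + 1) = 0 := by
    have := congrArg (· ≫ biprod.snd) h₁
    simpa [ha, enlargeD_eq u κ rfl] using this
  have he₁ : e ≫ E.d k (k + 1) = q ≫ κ.f k ≫ cfst u k (k + 1) rfl := by
    have := congrArg (· ≫ biprod.fst) h₁
    simpa [ha, enlargeD_eq u κ rfl, sub_eq_zero] using this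
  have he₂ : e ≫ u.f k + q ≫ κ.f k ≫ csnd u k + (x ≫ csnd u' j) ≫ F.d j k = 0 := by
    rw [ha] at h₂
    simpa [u', enlargeπ_f] using h₂
  have hqx : q ≫ κ.f k = (-pair u hjk e (x ≫ csnd u' j)) ≫ (mappingCone u).d j k := by
    refine mappingCone.ext_to u k (k + 1) rfl ?_ ?_
    · refine Eq.trans ?_ (comp_d_fst u hjk rfl _).symm
      simp [he₁]
    · refine Eq.trans ?_ (comp_d_snd u hjk _).symm
      simp only [Preadditive.neg_comp, pair_fst, pair_snd]
      rw [← neg_add, eq_neg_iff_add_eq_zero, Category.assoc]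
      rw [← he₂]
      simp only [Category.assoc]
      abel
  obtain ⟨A₁, π₁, _, q₁, hq₁⟩ := (mono_iff κ j k (k + 1) hjk rfl).1 hm q hq _ hqx
  set y := π₁ ≫ pair u hjk e (x ≫ csnd u' j) + q₁ ≫ κ.f j
  have hy : y ≫ (mappingCone u).d j k = 0 := by
    simp only [y, Preadditive.add_comp, Category.assoc, κ.comm, reassoc_of% hq₁.symm]
    rw [hqx, Preadditive.neg_comp, Preadditive.comp_neg, add_neg_cancel]
  obtain ⟨A₂, π₂, _, q₂, hq₂, z, hz⟩ := (epi_iff κ (j - 1) j k (by omega) hjk).1 he y hy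
  refine ⟨A₂, π₂ ≫ π₁, inferInstance, pair u' (show j - 1 + 1 = j by omega)
    (biprod.lift (z ≫ cfst u (j - 1) j (by omega)) (q₂ - π₂ ≫ q₁) : A₂ ⟶ E.X j ⊞ K.X j)
    (z ≫ csnd u (j - 1)), ?_⟩
  have hzf : (π₂ ≫ π₁) ≫ e + π₂ ≫ q₁ ≫ κ.f j ≫ cfst u j k hjk =
      q₂ ≫ κ.f j ≫ cfst u j k hjk - z ≫ cfst u (j - 1) j (by omega) ≫ E.d j k := by
    have := congrArg (· ≫ cfst u j k hjk) hz
    simp only [y, Preadditive.comp_add, Preadditive.add_comp, Category.assoc,
      mappingCone.d_fst_v u (j - 1) j k (by omega) hjk, Preadditive.comp_neg, pair_fst] at this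
    simpa [sub_eq_add_neg] using this
  have hzs : (π₂ ≫ π₁) ≫ x ≫ csnd u' j + π₂ ≫ q₁ ≫ κ.f j ≫ csnd u j =
      q₂ ≫ κ.f j ≫ csnd u j + (z ≫ cfst u (j - 1) j (by omega) ≫ u.f j +
        z ≫ csnd u (j - 1) ≫ F.d (j - 1) j) := by
    have := congrArg (· ≫ csnd u j) hz
    simp only [y, Preadditive.comp_add, Preadditive.add_comp, Category.assoc,
      mappingCone.d_snd_v u (j - 1) j (by omega), pair_snd] at this
    simpa using this
  refine mappingCone.ext_to u' j k hjk ?_ ?_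
  · refine Eq.trans ?_ (comp_d_fst u' (show j - 1 + 1 = j by omega) hjk _).symm
    rw [pair_fst, Category.assoc]
    refine (congrArg ((π₂ ≫ π₁) ≫ ·) ha).trans ?_
    refine Eq.trans ?_ (congrArg (fun t ↦ -(_ ≫ t)) (enlargeD_eq u κ hjk).symm)
    apply biprod.hom_ext
    · simp only [Category.assoc, biprod.lift_fst, Preadditive.neg_comp, Preadditive.comp_sub,
        biprod.lift_fst_assoc, biprod.lift_snd_assoc, Preadditive.sub_comp, Category.assoc]
      simp only [Category.assoc] at hzf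
      rw [eq_sub_of_add_eq hzf]
      abel
    · simp [Preadditive.sub_comp, hq₁, hq₂]
  · refine Eq.trans ?_ (comp_d_snd u' (show j - 1 + 1 = j by omega) _).symm
    rw [pair_fst, pair_snd]
    simp only [u', enlargeπ_f, biprod.lift_desc, Preadditive.sub_comp, Category.assoc]
    simp only [Category.assoc] at hzs
    rw [eq_sub_of_add_eq hzs]
    abel

variable (P : ObjectProperty C)

/-- One step down: kill `Hⁿ` of the cone by an object of `C₀` in degree `n`. -/
theorem exists_step (hql : PCoh.IsQuasiLiftable P) (n : ℤ) (h : NQis u (n + 1))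
    (hcone : PCoh.IsOfFiniteType P ((mappingCone u).homology n)) :
    ∃ (Q : C) (κ : (HomologicalComplex.single C (ComplexShape.up ℤ) n).obj Q ⟶ mappingCone u),
      P Q ∧ NQis (enlargeπ u κ) n := by
  obtain ⟨Q₀, g, hQ₀, hg⟩ := hcone
  obtain ⟨A, π, _, z, hz, hπ⟩ := HomologicalComplex.eq_liftCycles_homologyπ_up_to_refinements
    (mappingCone u) g (n + 1) (by simp)
  obtain ⟨Q, v, hQ, hv⟩ := hql A Q₀ π inferInstance hQ₀
  let κ := HomologicalComplex.mkHomFromSingle (c := ComplexShape.up ℤ) (K := mappingCone u) (v ≫ z)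
    (fun j hj ↦ by
      obtain rfl : n + 1 = j := hj
      rw [Category.assoc, hz, comp_zero])
  refine ⟨Q, κ, hQ, fun j hj ↦ exactAt_cone_enlarge u κ rfl ?_ ?_⟩
  · exact ⟨fun {_} a b _ ↦ (HomologicalComplex.isZero_single_obj_homology _ n Q (j + 1)
      (by omega)).eq_of_tgt a b⟩
  rcases hj.lt_or_eq with hj | rfl
  · exact ⟨fun {_} a b _ ↦ (h j (by omega)).isZero_homology.eq_of_src a b⟩
  rw [epi_iff κ (n - 1) n (n + 1) (by omega) rfl]
  intro B y hy
  obtain ⟨B', p, _, q, hq⟩ := surjective_up_to_refinements_of_epi ((v ≫ π) ≫ g)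
    ((mappingCone u).liftCycles y (n + 1) (by simp) hy ≫ (mappingCone u).homologyπ n)
  rw [Category.assoc v, hπ, ← Category.assoc p, HomologicalComplex.comp_liftCycles,
    ← Category.assoc q, ← Category.assoc (q ≫ v), HomologicalComplex.comp_liftCycles,
    HomologicalComplex.liftCycles_comp_homologyπ_eq_iff_up_to_refinements _ (n - 1) n (n + 1)
      (by simp) (by simp)] at hq
  obtain ⟨B'', r, _, w, hw⟩ := hq
  refine ⟨B'', r ≫ p, inferInstance,
    r ≫ q ≫ (HomologicalComplex.singleObjXSelf (ComplexShape.up ℤ) n Q).inv, ?_, w, ?_⟩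
  · exact (HomologicalComplex.isZero_single_obj_X _ n Q (n + 1) (by omega)).eq_of_tgt _ _
  · simpa [κ] using hw

theorem exactAt_cone_ιTrunc_source (n : ℤ) (h : NQis u n) :
    QuasiIso (enlargeπ u ((mappingCone u).ιTruncLE (n - 1))) := by
  rw [quasiIso_iff_forall_exactAt]
  intro j
  have key : ∀ i, IsIso (HomologicalComplex.homologyMap ((mappingCone u).ιTruncLE (n - 1)) i) := by
    intro i
    by_cases hi : i ≤ n - 1
    · have := (mappingCone u).quasiIsoAt_ιTruncLE (n - 1) i hi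
      exact (quasiIsoAt_iff_isIso_homologyMap _ i).1 this
    · exact (CochainComplex.isZero_of_isLE _ (n - 1) i (by omega)).isIso
        (h i (by omega)).isZero_homology _
  exact exactAt_cone_enlarge u _ rfl inferInstance inferInstance

/-- Below degree `n`, an `n`-quasi-isomorphism completes to a quasi-isomorphism. -/
theorem exists_factor (n : ℤ) (h : NQis u n) :
    ∃ (E' : CochainComplex C ℤ) (v : E ⟶ E') (u' : E' ⟶ F), v ≫ u' = u ∧ QuasiIso u' ∧
      (∀ i : ℤ, Mono (v.f i)) ∧ ∀ i : ℤ, n ≤ i → IsIso (v.f i) :=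
  ⟨_, enlargeι u _, enlargeπ u _, enlargeι_π u _, exactAt_cone_ιTrunc_source u n h, mono_enlargeι_f u _,
    fun i hi ↦ isIso_enlargeι_f u _
      (CochainComplex.isZero_of_isStrictlyLE _ (n - 1) i (by omega))⟩

end GrothLib.PC
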