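import Groth.Agent.Lib.PC.FiniteType
import Mathlib.Algebra.Homology.DerivedCategory.Fractions
import Mathlib.Algebra.Homology.DerivedCategory.HomologySequence
import Mathlib.Algebra.Homology.DerivedCategory.TStructure

/-!
# Pseudo-coherence relative to a subcategory: resolutions and triangles
-/

universe w v u

open CategoryTheory CategoryTheory.Limits CategoryTheory.Pretriangulated DerivedCategory ZeroObject

namespace GrothLib.PC

variable {C : Type u} [Category.{v} C] [Abelian C] (P : ObjectProperty C)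
  [P.IsClosedUnderIsomorphisms] [P.ContainsZero] (hsum : ∀ X Y : C, P X → P Y → P (X ⨯ Y))

include hsum in
theorem prop_biprod {X Y : C} (hX : P X) (hY : P Y) : P (X ⊞ Y) :=
  P.prop_of_iso (biprod.isoProd X Y).symm (hsum X Y hX hY)

theorem isStrictPC_zero (n : ℤ) {K : CochainComplex C ℤ} (h : ∀ i, n ≤ i → IsZero (K.X i)) :
    PCoh.IsStrictPC P n K :=
  ⟨⟨n, fun i hi ↦ h i hi.le⟩, fun i hi ↦ P.prop_of_isZero (h i hi)⟩

theorem isStrictPC_mono {n m : ℤ} (h : n ≤ m) {K : CochainComplex C ℤ}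
    (hK : PCoh.IsStrictPC P n K) : PCoh.IsStrictPC P m K :=
  ⟨hK.1, fun i hi ↦ hK.2 i (h.trans hi)⟩

include hsum in
theorem isStrictPC_mappingCone {n : ℤ} {E F : CochainComplex C ℤ} (u : E ⟶ F)
    (hE : PCoh.IsStrictPC P (n + 1) E) (hF : PCoh.IsStrictPC P n F) :
    PCoh.IsStrictPC P n (CochainComplex.mappingCone u) := by
  obtain ⟨⟨b, hb⟩, hE⟩ := hE
  obtain ⟨⟨c, hc⟩, hF⟩ := hF
  refine ⟨⟨max b c, fun i hi ↦ ?_⟩, fun i hi ↦ ?_⟩
  · exact (CochainComplex.mappingCone.isZero_X_iff u i).2 ⟨hb _ (by omega), hc _ (by omega)⟩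
  · exact P.prop_of_iso (HomologicalComplex.homotopyCofiber.XIsoBiprod u i (i + 1) rfl).symm
      (prop_biprod P hsum (hE _ (by omega)) (hF _ hi))

variable [HasDerivedCategory.{w} C]

/-- `n`-pseudo-coherence in the derived category. -/
def PCn (n : ℤ) (F : DerivedCategory C) : Prop :=
  ∃ E : CochainComplex C ℤ, PCoh.IsStrictPC P n E ∧ Nonempty (Q.obj E ≅ F)

theorem pcn_of_iso {n : ℤ} {F G : DerivedCategory C} (e : F ≅ G) (h : PCn P n F) : PCn P n G := by
  obtain ⟨E, hE, ⟨e'⟩⟩ := h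
  exact ⟨E, hE, ⟨e' ≪≫ e⟩⟩

theorem pcn_mono {n m : ℤ} (h : n ≤ m) {F : DerivedCategory C} (hF : PCn P n F) : PCn P m F := by
  obtain ⟨E, hE, e⟩ := hF
  exact ⟨E, isStrictPC_mono P h hE, e⟩

theorem pcn_of_isZero_homology {n : ℤ} {F : DerivedCategory C}
    (h : ∀ i, n ≤ i → IsZero ((homologyFunctor C i).obj F)) : PCn P n F := by
  have : F.IsLE (n - 1) := (isLE_iff _ _).2 fun i hi ↦ h i (by omega)
  obtain ⟨K, hK, ⟨e⟩⟩ := exists_iso_Q_obj_of_isLE F (n - 1)
  exact ⟨K, isStrictPC_zero P n fun i hi ↦ K.isZero_of_isStrictlyLE (n - 1) i (by omega), ⟨e.symm⟩⟩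

omit [P.ContainsZero] in
theorem pcn_shift {n : ℤ} {F : DerivedCategory C} (h : PCn P n F) (m : ℤ) :
    PCn P (n - m) (F⟦m⟧) := by
  obtain ⟨E, ⟨⟨b, hb⟩, hP⟩, ⟨e⟩⟩ := h
  exact ⟨E⟦m⟧, ⟨⟨b - m, fun i hi ↦ (hb (i + m) (by omega)).of_iso (E.shiftFunctorObjXIso m i _ rfl)⟩,
    fun i hi ↦ P.prop_of_iso (E.shiftFunctorObjXIso m i _ rfl).symm (hP (i + m) (by omega))⟩,
    ⟨(Q.commShiftIso m).app E ≪≫ (shiftFunctor _ m).mapIso e⟩⟩

theorem nonempty_cone_iso {A B A' B' : CochainComplex C ℤ} (f : A ⟶ B) (f' : A' ⟶ B')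
    (a : Q.obj A ≅ Q.obj A') (b : Q.obj B ≅ Q.obj B') (h : Q.map f ≫ b.hom = a.hom ≫ Q.map f') :
    Nonempty (Q.obj (CochainComplex.mappingCone f) ≅ Q.obj (CochainComplex.mappingCone f')) :=
  ⟨Triangle.π₃.mapIso (isoTriangleOfIso₁₂ _ _ (mappingCone_triangle_distinguished f)
    (mappingCone_triangle_distinguished f') a b h)⟩

theorem exactAt_iff_isZero (K : CochainComplex C ℤ) (i : ℤ) :
    K.ExactAt i ↔ IsZero ((homologyFunctor C i).obj (Q.obj K)) := by
  rw [HomologicalComplex.exactAt_iff_isZero_homology]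
  exact ((homologyFunctorFactors C i).app K).isZero_iff.symm

theorem isOfFiniteType_of_pcn (hqs : PCoh.IsQuasiStableUnderKernels P) {n : ℤ}
    {F : DerivedCategory C} (h : PCn P n F)
    (hac : ∀ i, n < i → IsZero ((homologyFunctor C i).obj F)) :
    PCoh.IsOfFiniteType P ((homologyFunctor C n).obj F) := by
  obtain ⟨E, hE, ⟨e⟩⟩ := h
  refine isOfFiniteType_of_iso P (((homologyFunctorFactors C n).app E).symm ≪≫
    (homologyFunctor C n).mapIso e) (isOfFiniteType_homology P hqs E hE fun i hi ↦ ?_)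
  exact (exactAt_iff_isZero E i).2 ((hac i hi).of_iso ((homologyFunctor C i).mapIso e))

theorem nqis_iff_derived {E F : CochainComplex C ℤ} (u : E ⟶ F) (n : ℤ) :
    NQis u n ↔ (∀ i : ℤ, n < i → IsIso ((homologyFunctor C i).map (Q.map u))) ∧
      Epi ((homologyFunctor C n).map (Q.map u)) := by
  rw [nqis_iff]
  refine and_congr (forall₂_congr fun i _ ↦ (NatIso.isIso_map_iff (homologyFunctorFactors C i) u).symm) ?_
  exact ((MorphismProperty.epimorphisms C).arrow_mk_iso_iff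
    (Arrow.isoMk' _ _ ((homologyFunctorFactors C n).app E) ((homologyFunctorFactors C n).app F)
      ((homologyFunctorFactors C n).hom.naturality u).symm)).symm

variable (hqs : PCoh.IsQuasiStableUnderKernels P) (hql : PCoh.IsQuasiLiftable P)

/-- The condition allowing descent to degree `n`. -/
def Descends (n : ℤ) (F : CochainComplex C ℤ) : Prop :=
  ∀ (E : CochainComplex C ℤ) (u : E ⟶ F), PCoh.IsStrictPC P n E →
    PCn P n (Q.obj (CochainComplex.mappingCone u))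

include hsum hqs hql in
theorem exists_descend {n : ℤ} (k : ℕ) {F : CochainComplex C ℤ} (hF : Descends P n F)
    {E : CochainComplex C ℤ} (u : E ⟶ F) (hE : PCoh.IsStrictPC P n E) (hu : NQis u (n + k)) :
    ∃ (E' : CochainComplex C ℤ) (v : E ⟶ E') (u' : E' ⟶ F), v ≫ u' = u ∧
      PCoh.IsStrictPC P n E' ∧ NQis u' n ∧ (∀ i, Mono (v.f i)) ∧
      (∀ i, n + k ≤ i → IsIso (v.f i)) ∧ ∀ i, i < n → IsIso (v.f i) := by
  induction k generalizing E with
  | zero => exact ⟨E, 𝟙 E, u, Category.id_comp u, hE, by simpa using hu, fun i ↦ inferInstance,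
      fun i _ ↦ inferInstance, fun i _ ↦ inferInstance⟩
  | succ k ih =>
    have hu' : NQis u (n + k + 1) := by rwa [add_assoc, ← Nat.cast_one, ← Nat.cast_add]
    have hft : PCoh.IsOfFiniteType P ((CochainComplex.mappingCone u).homology (n + k)) :=
      isOfFiniteType_of_iso P ((homologyFunctorFactors C (n + k)).app _)
        (isOfFiniteType_of_pcn P hqs (pcn_mono P (by omega : n ≤ n + (k : ℤ)) (hF E u hE))
          fun i hi ↦ (exactAt_iff_isZero _ i).1 (hu' i (by omega)))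
    obtain ⟨Q₀, κ, hQ₀, hκ⟩ := exists_step u P hql (n + k) hu' hft
    have hz : ∀ i, i ≠ n + k →
        IsZero (((HomologicalComplex.single C (ComplexShape.up ℤ) (n + k)).obj Q₀).X i) :=
      fun i hi ↦ HomologicalComplex.isZero_single_obj_X _ _ _ _ hi
    have hE' : PCoh.IsStrictPC P n (enlarge u κ) := by
      obtain ⟨⟨b, hb⟩, hP⟩ := hE
      refine ⟨⟨max b (n + k), fun i hi ↦ ?_⟩, fun i hi ↦ prop_biprod P hsum (hP i hi) ?_⟩
      · exact biprod_isZero_iff _ _ |>.2 ⟨hb i (by omega), hz i (by omega)⟩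
      · by_cases h : i = n + k
        · subst h
          exact P.prop_of_iso (HomologicalComplex.singleObjXSelf _ _ _).symm hQ₀
        · exact P.prop_of_isZero (hz i h)
    obtain ⟨E', v, u', hvu, hE'', hn, hm, hi, hl⟩ := ih (enlargeπ u κ) hE' hκ
    refine ⟨E', enlargeι u κ ≫ v, u', by rw [Category.assoc, hvu, enlargeι_π], hE'', hn,
      fun i ↦ ?_, fun i hi' ↦ ?_, fun i hi' ↦ ?_⟩
    · have := hm i
      have := mono_enlargeι_f u κ i
      exact mono_comp _ _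
    · have h1 := hi i (by omega)
      have h2 := isIso_enlargeι_f u κ (hz i (by omega))
      exact IsIso.comp_isIso' h2 h1
    · have h1 := hl i hi'
      have h2 := isIso_enlargeι_f u κ (hz i (by omega))
      exact IsIso.comp_isIso' h2 h1

omit [P.ContainsZero] in
theorem isStrictPC_of_isIso {n : ℤ} {E E' : CochainComplex C ℤ} (v : E ⟶ E')
    (hE : PCoh.IsStrictPC P n E) (hv : ∀ i, n ≤ i → IsIso (v.f i)) :
    PCoh.IsStrictPC P n E' := by
  obtain ⟨⟨b, hb⟩, hP⟩ := hE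
  refine ⟨⟨max b n, fun i hi ↦ ?_⟩, fun i hi ↦ ?_⟩
  · have := hv i (by omega)
    exact (hb i (by omega)).of_iso (asIso (v.f i)).symm
  · have := hv i hi
    exact P.prop_of_iso (asIso (v.f i)) (hP i hi)

include hsum hqs hql in
theorem exists_factor_strict {n : ℤ} {F : CochainComplex C ℤ} (hF : Descends P n F)
    {E : CochainComplex C ℤ} (u : E ⟶ F) (hE : PCoh.IsStrictPC P n E) (i : ℤ) (hu : NQis u i) :
    ∃ (E' : CochainComplex C ℤ) (v : E ⟶ E') (u' : E' ⟶ F), v ≫ u' = u ∧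
      PCoh.IsStrictPC P n E' ∧ QuasiIso u' ∧ (∀ j, Mono (v.f j)) ∧
      (∀ j, i ≤ j → IsIso (v.f j)) := by
  by_cases hin : i ≤ n
  · obtain ⟨E', v, u', hvu, hq, hm, hi⟩ := exists_factor u i hu
    exact ⟨E', v, u', hvu, isStrictPC_of_isIso P v hE fun j hj ↦ hi j (hin.trans hj), hq, hm, hi⟩
  obtain ⟨k, rfl⟩ : ∃ k : ℕ, i = n + k := ⟨(i - n).toNat, by omega⟩
  obtain ⟨E₁, v, u₁, hvu, hE₁, hn, hm, hi, -⟩ := exists_descend P hsum hqs hql k hF u hE hu
  obtain ⟨E', v', u', hvu', hq, hm', hi'⟩ := exists_factor u₁ n hn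
  refine ⟨E', v ≫ v', u', by rw [Category.assoc, hvu', hvu],
    isStrictPC_of_isIso P v' hE₁ hi', hq, fun j ↦ ?_, fun j hj ↦ ?_⟩
  · have := hm j
    have := hm' j
    exact mono_comp _ _
  · have h1 := hi j hj
    have h2 := hi' j (by omega)
    exact IsIso.comp_isIso' h1 h2

/-- The zero map. -/
noncomputable abbrev fromZero (F : CochainComplex C ℤ) : (0 : CochainComplex C ℤ) ⟶ F := 0

omit [P.ContainsZero] in
theorem isZero_zero_X (i : ℤ) : IsZero ((0 : CochainComplex C ℤ).X i) :=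
  (HomologicalComplex.eval C (ComplexShape.up ℤ) i).map_isZero (isZero_zero _)

theorem isIso_inr_fromZero (F : CochainComplex C ℤ) :
    IsIso (Q.map (CochainComplex.mappingCone.inr (fromZero F))) :=
  ((Q.mapTriangle.obj (CochainComplex.mappingCone.triangle (fromZero F))).isZero₁_iff_isIso₂
    (mappingCone_triangle_distinguished _)).1 (Q.map_isZero (isZero_zero _))

/-- The cone of the zero map is the target. -/
noncomputable def coneFromZeroIso (F : CochainComplex C ℤ) :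
    Q.obj F ≅ Q.obj (CochainComplex.mappingCone (fromZero F)) :=
  have := isIso_inr_fromZero F
  asIso (Q.map (CochainComplex.mappingCone.inr (fromZero F)))

theorem nqis_fromZero {n : ℤ} (F : CochainComplex C ℤ)
    (h : ∀ i, n ≤ i → IsZero ((homologyFunctor C i).obj (Q.obj F))) : NQis (fromZero F) n :=
  fun j hj ↦ (exactAt_iff_isZero _ j).2
    ((h j hj).of_iso ((homologyFunctor C j).mapIso (coneFromZeroIso F).symm))

include hsum hqs hql in
theorem exists_resolution_vanishing {n : ℤ} {F : CochainComplex C ℤ} (hF : Descends P n F) (m : ℤ)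
    (h : ∀ i, m ≤ i → IsZero ((homologyFunctor C i).obj (Q.obj F))) :
    ∃ (F' : CochainComplex C ℤ) (s : F' ⟶ F), PCoh.IsStrictPC P n F' ∧ QuasiIso s ∧
      ∀ i, m ≤ i → IsZero (F'.X i) := by
  obtain ⟨E', v, u', -, hE', hq, -, hi⟩ := exists_factor_strict P hsum hqs hql hF (fromZero F)
    (isStrictPC_zero P n fun i _ ↦ isZero_zero_X i) m (nqis_fromZero F h)
  refine ⟨E', u', hE', hq, fun i hi' ↦ ?_⟩
  have := hi i hi'
  exact (isZero_zero_X i).of_iso (asIso (v.f i)).symm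

include hsum in
theorem descends_of_quasiIso {n : ℤ} {F F₀ : CochainComplex C ℤ} (s : F ⟶ F₀) [QuasiIso s]
    (hF₀ : PCoh.IsStrictPC P n F₀) : Descends P n F := fun E u hE ↦ by
  obtain ⟨e⟩ := nonempty_cone_iso u (u ≫ s) (Iso.refl _) (asIso (Q.map s)) (by simp)
  exact ⟨_, isStrictPC_mappingCone P hsum (u ≫ s) (isStrictPC_mono P (by omega) hE) hF₀, ⟨e.symm⟩⟩

omit [P.IsClosedUnderIsomorphisms] [P.ContainsZero] in
theorem exists_isZero_homology_of_pcn {n : ℤ} {F : DerivedCategory C} (h : PCn P n F) :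
    ∃ b : ℤ, ∀ i, b ≤ i → IsZero ((homologyFunctor C i).obj F) := by
  obtain ⟨E, ⟨⟨b, hb⟩, -⟩, ⟨e⟩⟩ := h
  refine ⟨b + 1, fun i hi ↦ ((exactAt_iff_isZero E i).1 ?_).of_iso ((homologyFunctor C i).mapIso e.symm)⟩
  exact ShortComplex.exact_of_isZero_X₂ _ (hb i (by omega))

include hsum hqs hql in
theorem exists_strict_to_of_quasiIso {n : ℤ} {E F : CochainComplex C ℤ} (u : E ⟶ F) [QuasiIso u]
    (hF : PCoh.IsStrictPC P n F) :
    ∃ (F' : CochainComplex C ℤ) (v : F' ⟶ E), PCoh.IsStrictPC P n F' ∧ QuasiIso v := by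
  obtain ⟨b, hb⟩ := exists_isZero_homology_of_pcn P
    (⟨F, hF, ⟨(asIso (Q.map u)).symm⟩⟩ : PCn P n (Q.obj E))
  obtain ⟨F', s, h1, h2, -⟩ := exists_resolution_vanishing P hsum hqs hql
    (descends_of_quasiIso P hsum u hF) b hb
  exact ⟨F', s, h1, h2⟩

include hsum hqs hql in
theorem exists_strict_quasiIso {n : ℤ} {F : CochainComplex C ℤ} (h : PCn P n (Q.obj F)) :
    ∃ (F' : CochainComplex C ℤ) (s : F' ⟶ F), PCoh.IsStrictPC P n F' ∧ QuasiIso s := by
  obtain ⟨E, hE, ⟨e⟩⟩ := h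
  obtain ⟨X, s, hs, g, hg⟩ := right_fac e.hom
  have : QuasiIso s := (isIso_Q_map_iff_quasiIso C s).1 hs
  have : QuasiIso g := by
    rw [← isIso_Q_map_iff_quasiIso C, show Q.map g = Q.map s ≫ e.hom by simp [hg]]
    infer_instance
  obtain ⟨F', v, hF', hv⟩ := exists_strict_to_of_quasiIso P hsum hqs hql s hE
  exact ⟨F', v ≫ g, hF', inferInstance⟩

include hsum hqs hql in
theorem pcn_obj₃ {n : ℤ} {T : Triangle (DerivedCategory C)} (hT : T ∈ distTriang _)
    (h₁ : PCn P (n + 1) T.obj₁) (h₂ : PCn P n T.obj₂) : PCn P n T.obj₃ := by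
  obtain ⟨X, hX, ⟨a⟩⟩ := h₁
  obtain ⟨Y, hY, ⟨b⟩⟩ := h₂
  obtain ⟨X', s, hs, g, hg⟩ := right_fac (a.hom ≫ T.mor₁ ≫ b.inv)
  have : QuasiIso s := (isIso_Q_map_iff_quasiIso C s).1 hs
  obtain ⟨X'', t, hX'', ht⟩ := exists_strict_to_of_quasiIso P hsum hqs hql s hX
  have : IsIso (Q.map t) := (isIso_Q_map_iff_quasiIso C t).2 ht
  let a' : Q.obj X'' ≅ T.obj₁ := asIso (Q.map t) ≪≫ asIso (Q.map s) ≪≫ a
  refine ⟨_, isStrictPC_mappingCone P hsum (t ≫ g) hX'' hY, ⟨Triangle.π₃.mapIso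
    (isoTriangleOfIso₁₂ _ _ (mappingCone_triangle_distinguished (t ≫ g)) hT
      a' b ?_)⟩⟩
  have hg' : Q.map g = Q.map s ≫ a.hom ≫ T.mor₁ ≫ b.inv := by simp [hg]
  show Q.map (t ≫ g) ≫ b.hom = a'.hom ≫ T.mor₁
  simp [hg', a']

include hsum hqs hql in
theorem pcn_obj₁ {n : ℤ} {T : Triangle (DerivedCategory C)} (hT : T ∈ distTriang _)
    (h₂ : PCn P (n + 1) T.obj₂) (h₃ : PCn P n T.obj₃) : PCn P (n + 1) T.obj₁ := by
  have h := pcn_obj₃ P hsum hqs hql (rot_of_distTriang _ hT) h₂ h₃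
  have h' : PCn P (n + 1) ((T.obj₁⟦(1 : ℤ)⟧)⟦(-1 : ℤ)⟧) := by
    have := pcn_shift P h (-1)
    rwa [sub_neg_eq_add] at this
  exact pcn_of_iso P ((shiftEquiv (DerivedCategory C) (1 : ℤ)).unitIso.app T.obj₁).symm h'

include hsum hqs hql in
theorem pcn_obj₂ {n : ℤ} {T : Triangle (DerivedCategory C)} (hT : T ∈ distTriang _)
    (h₁ : PCn P n T.obj₁) (h₃ : PCn P n T.obj₃) : PCn P n T.obj₂ := by
  have h : PCn P (n + 1) T.invRotate.obj₁ := by
    have := pcn_shift P h₃ (-1)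
    rwa [sub_neg_eq_add] at this
  exact pcn_obj₃ P hsum hqs hql (inv_rot_of_distTriang _ hT) h h₁

include hsum hqs hql in
theorem descends_of_pcn {n : ℤ} {F : CochainComplex C ℤ} (h : PCn P n (Q.obj F)) : Descends P n F :=
  fun E u hE ↦ pcn_obj₃ P hsum hqs hql (mappingCone_triangle_distinguished u)
    ⟨E, isStrictPC_mono P (by omega) hE, ⟨Iso.refl _⟩⟩ h

include hsum hqs hql in
theorem exists_vanishing {n m : ℤ} {F : DerivedCategory C} (h : PCn P n F)
    (hac : ∀ i, m ≤ i → IsZero ((homologyFunctor C i).obj F)) :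
    ∃ E : CochainComplex C ℤ, PCoh.IsStrictPC P n E ∧ (∀ i, m ≤ i → IsZero (E.X i)) ∧
      Nonempty (Q.obj E ≅ F) := by
  obtain ⟨G, hG, ⟨e⟩⟩ := h
  obtain ⟨F', s, h1, h2, h3⟩ := exists_resolution_vanishing P hsum hqs hql
    (descends_of_pcn P hsum hqs hql ⟨G, hG, ⟨Iso.refl _⟩⟩) m
    (fun i hi ↦ (hac i hi).of_iso ((homologyFunctor C i).mapIso e))
  exact ⟨F', h1, h3, ⟨asIso (Q.map s) ≪≫ e⟩⟩

include hsum hqs hql in
theorem pcn_iff_isOfFiniteType {n : ℤ} {F : DerivedCategory C}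
    (hac : ∀ i, n < i → IsZero ((homologyFunctor C i).obj F)) :
    PCn P n F ↔ PCoh.IsOfFiniteType P ((homologyFunctor C n).obj F) := by
  refine ⟨fun h ↦ isOfFiniteType_of_pcn P hqs h hac, fun h ↦ ?_⟩
  let G := Q.objPreimage F
  let e : Q.obj G ≅ F := Q.objObjPreimageIso F
  have hu : NQis (fromZero G) (n + 1) :=
    nqis_fromZero G fun i hi ↦ (hac i (by omega)).of_iso ((homologyFunctor C i).mapIso e)
  obtain ⟨Q₀, κ, hQ₀, hκ⟩ := exists_step (fromZero G) P hql n hu (isOfFiniteType_of_iso P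
    ((homologyFunctor C n).mapIso (e.symm ≪≫ coneFromZeroIso G) ≪≫
      (homologyFunctorFactors C n).app _) h)
  have hz : ∀ i, i ≠ n →
      IsZero (((HomologicalComplex.single C (ComplexShape.up ℤ) n).obj Q₀).X i) :=
    fun i hi ↦ HomologicalComplex.isZero_single_obj_X _ _ _ _ hi
  have hS : PCoh.IsStrictPC P n (enlarge (fromZero G) κ) := by
    refine ⟨⟨n, fun i hi ↦ biprod_isZero_iff _ _ |>.2 ⟨isZero_zero_X i, hz i (by omega)⟩⟩,
      fun i hi ↦ prop_biprod P hsum (P.prop_of_isZero (isZero_zero_X i)) ?_⟩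
    by_cases h : i = n
    · subst h
      exact P.prop_of_iso (HomologicalComplex.singleObjXSelf _ _ _).symm hQ₀
    · exact P.prop_of_isZero (hz i h)
  obtain ⟨E', v, u', -, hq, -, hi⟩ := exists_factor (enlargeπ (fromZero G) κ) n hκ
  exact ⟨E', isStrictPC_of_isIso P v hS hi, ⟨asIso (Q.map u') ≪≫ e⟩⟩

end GrothLib.PC
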