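import Groth.Agent.Lib.PC.Modify
import Mathlib.Algebra.Homology.Augment

/-!
# The top homology of a strictly pseudo-coherent complex is of finite type
-/

universe v u

open CategoryTheory CategoryTheory.Limits

namespace GrothLib.PC

variable {C : Type u} [Category.{v} C] [Abelian C] (P : ObjectProperty C)
  [P.IsClosedUnderIsomorphisms]

theorem isOfFiniteType_of_epi {F G : C} (f : F ⟶ G) [Epi f] (h : PCoh.IsOfFiniteType P F) :
    PCoh.IsOfFiniteType P G := by
  obtain ⟨Q, π, hQ, _⟩ := h
  exact ⟨Q, π ≫ f, hQ, epi_comp _ _⟩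

theorem isOfFiniteType_of_iso {F G : C} (e : F ≅ G) (h : PCoh.IsOfFiniteType P F) :
    PCoh.IsOfFiniteType P G :=
  isOfFiniteType_of_epi P e.hom h

theorem isOfFiniteType_homology (hqs : PCoh.IsQuasiStableUnderKernels P) {n : ℤ}
    (E : CochainComplex C ℤ) (hE : PCoh.IsStrictPC P n E)
    (hac : ∀ i : ℤ, n < i → E.ExactAt i) : PCoh.IsOfFiniteType P (E.homology n) := by
  obtain ⟨⟨b, hb⟩, hP⟩ := hE
  let R := E.restriction (ComplexShape.embeddingUpIntGE n)
  have e : (ComplexShape.embeddingUpIntGE n).f 0 = n := by simp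
  let f : E.cycles n ⟶ R.X 0 := E.iCycles n ≫ eqToHom (congrArg E.X e.symm)
  have w : f ≫ R.d 0 1 = 0 := by
    have key : ∀ (m m' : ℤ) (hm : n = m), E.iCycles n ≫ eqToHom (congrArg E.X hm) ≫ E.d m m' = 0 := by
      rintro m m' rfl
      simp
    exact (Category.assoc _ _ _).trans (key _ _ e.symm)
  let K := CochainComplex.augment R f w
  refine isOfFiniteType_of_epi P (E.homologyπ n) (hqs K (fun i ↦ ?_) ?_ fun i hi ↦ ?_)
  · match i with
    | 0 =>
      rw [HomologicalComplex.exactAt_iff_exact_up_to_refinements K 0 0 1 (by simp) (by simp)]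
      intro A x hx
      have : x = 0 := by
        have : Mono f := mono_comp _ _
        exact (cancel_mono f).1 (hx.trans zero_comp.symm)
      exact ⟨A, 𝟙 A, inferInstance, 0, by subst this; exact comp_zero.trans zero_comp.symm⟩
    | 1 =>
      rw [HomologicalComplex.exactAt_iff_exact_up_to_refinements K 0 1 2 (by simp) (by simp)]
      intro A x hx
      have hx' : (x ≫ eqToHom (congrArg E.X e)) ≫ E.d n (n + 1) = 0 := by
        have key : ∀ (m m' : ℤ) (hm : m = n) (hm' : m' = n + 1) (y : A ⟶ E.X m), y ≫ E.d m m' = 0 →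
            (y ≫ eqToHom (congrArg E.X hm)) ≫ E.d n (n + 1) = 0 := by
          rintro m m' rfl rfl y hy
          simpa using hy
        exact key _ _ e (by simp) x hx
      refine ⟨A, 𝟙 A, inferInstance, E.liftCycles _ (n + 1) (by simp) hx', ?_⟩
      simp [K, f]
    | (i + 2) =>
      rw [HomologicalComplex.exactAt_iff_exact_up_to_refinements K (i + 1) (i + 2) (i + 3)
        (by simp) (by simp)]
      exact (HomologicalComplex.exactAt_iff_exact_up_to_refinements E (n + (i : ℕ))
        (n + ((i + 1 : ℕ) : ℤ)) (n + ((i + 2 : ℕ) : ℤ)) (by simp; omega) (by simp; omega)).1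
        (hac _ (by omega))
  · refine ⟨(b - n).toNat + 1, fun i hi ↦ ?_⟩
    match i, hi with
    | (i + 1), hi => exact hb (n + (i : ℕ)) (by omega)
  · match i, hi with
    | (i + 1), _ => exact hP (n + (i : ℕ)) (by omega)

end GrothLib.PC
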