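import Groth.Agent.Lib.PC.Consequences
import Mathlib.Algebra.Homology.DerivedCategory.KProjective
import Mathlib.CategoryTheory.Preadditive.Projective.Basic

/-!
# Perfect complexes relative to a liftable subcategory
-/

universe w v u

open CategoryTheory CategoryTheory.Limits CategoryTheory.Pretriangulated DerivedCategory ZeroObject

namespace GrothLib.PC

variable {C : Type u} [Category.{v} C] [Abelian C]
  (P : ObjectProperty C) [P.IsClosedUnderIsomorphisms] [P.ContainsZero]
  (hlift : ∀ (E F : C) (u : E ⟶ F), Epi u → P F → IsSplitEpi u)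
  (hst : ∀ (E F : C) (u : E ⟶ F), Epi u → P E → P F → P (kernel u))

include hlift in
omit [P.IsClosedUnderIsomorphisms] [P.ContainsZero] in
theorem projective_of_mem {X : C} (hX : P X) : Projective X where
  factors {E F} f e he := by
    have := hlift (pullback e f) X (pullback.snd e f) inferInstance hX
    exact ⟨section_ (pullback.snd e f) ≫ pullback.fst e f,
      by rw [Category.assoc, pullback.condition, IsSplitEpi.id_assoc]⟩

include hst in
omit [P.IsClosedUnderIsomorphisms] [P.ContainsZero] in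
theorem prop_of_shortExact [P.IsClosedUnderIsomorphisms] {S : ShortComplex C} (hS : S.ShortExact)
    (h₂ : P S.X₂) (h₃ : P S.X₃) : P S.X₁ := by
  have := hS.epi_g
  exact P.prop_of_iso ((kernelIsKernel S.g).conePointUniqueUpToIso hS.fIsKernel)
    (hst _ _ S.g this h₂ h₃)

/-- Terms in `C₀` within `[a, b]`. -/
def Within (a b : ℤ) (E : CochainComplex C ℤ) : Prop :=
  (∀ i : ℤ, P (E.X i)) ∧ ∀ i : ℤ, i < a ∨ b < i → IsZero (E.X i)

include hst in
theorem exists_within_trunc {a c : ℤ} (hac : a < c) (F : CochainComplex C ℤ) (hF : Within P a c F)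
    (hc : F.ExactAt c) :
    ∃ (F' : CochainComplex C ℤ) (s : F' ⟶ F), Within P a (c - 1) F' ∧ QuasiIso s := by
  have hq : QuasiIso (F.ιTruncLE (c - 1)) := ⟨fun i ↦ by
    by_cases hi : i ≤ c - 1
    · exact F.quasiIsoAt_ιTruncLE _ i hi
    · rw [quasiIsoAt_iff_isIso_homologyMap]
      refine (CochainComplex.isZero_of_isLE _ (c - 1) i (by omega)).isIso ?_ _
      rcases (show c ≤ i by omega).lt_or_eq with h | rfl
      · exact HomologicalComplex.ExactAt.isZero_homology
          (ShortComplex.exact_of_isZero_X₂ _ (hF.2 i (Or.inr h)))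
      · exact hc.isZero_homology⟩
  have hzero : ∀ i, i < a ∨ c - 1 < i → IsZero ((F.truncLE (c - 1)).X i) := by
    rintro i (hi | hi)
    · have : Mono ((F.ιTruncLE (c - 1)).f i) :=
        inferInstanceAs (Mono ((HomologicalComplex.ιTruncLE F (ComplexShape.embeddingUpIntLE (c - 1))).f i))
      exact IsZero.of_mono ((F.ιTruncLE (c - 1)).f i) (hF.2 i (Or.inl hi))
    · exact CochainComplex.isZero_of_isStrictlyLE _ (c - 1) i hi
  refine ⟨_, F.ιTruncLE (c - 1), ⟨fun i ↦ ?_, hzero⟩, hq⟩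
  by_cases hi : c - 1 < i
  · exact P.prop_of_isZero (hzero i (Or.inr hi))
  obtain ⟨k, hk⟩ : ∃ k : ℕ, c - 1 - k = i := ⟨(c - 1 - i).toNat, by omega⟩
  by_cases hk0 : k = 0
  · subst hk0
    refine P.prop_of_iso (HomologicalComplex.truncLEXIsoCycles F
      (ComplexShape.embeddingUpIntLE (c - 1)) (i := (0 : ℕ)) (i' := i) (by simp at hk ⊢; omega)
      ((ComplexShape.boundaryLE_embeddingUpIntLE_iff _ _).2 rfl)).symm ?_
    obtain rfl : i = c - 1 := by simp at hk; omega
    have hep : Epi (F.d (c - 1) c) := by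
      rw [epi_iff_surjective_up_to_refinements]
      intro A y
      obtain ⟨A', π, _, x, hx⟩ := (exactAt_iff (c - 1) c (c + 1) (by omega) rfl).1 hc y
        ((hF.2 (c + 1) (Or.inr (by omega))).eq_of_tgt _ _)
      exact ⟨A', π, inferInstance, x, hx⟩
    exact prop_of_shortExact P hst
      (S := ShortComplex.mk (F.iCycles (c - 1)) (F.d (c - 1) c) (F.iCycles_d _ _))
      (ShortComplex.ShortExact.mk' (ShortComplex.exact_of_f_is_kernel _
        (F.cyclesIsKernel (c - 1) c (by simp))) inferInstance hep) (hF.1 _) (hF.1 _)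
  · exact P.prop_of_iso (HomologicalComplex.truncLEXIso F (ComplexShape.embeddingUpIntLE (c - 1))
      (i := k) (i' := i) (by simp; omega)
      (by rw [ComplexShape.boundaryLE_embeddingUpIntLE_iff]; exact hk0)).symm (hF.1 i)

include hst in
theorem exists_within_of_acyclic_above {a b c : ℤ} (hab : a ≤ b) (F : CochainComplex C ℤ)
    (hF : Within P a c F) (hcoh : ∀ i : ℤ, b < i → F.ExactAt i) :
    ∃ (F' : CochainComplex C ℤ) (s : F' ⟶ F), Within P a (min b c) F' ∧ QuasiIso s := by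
  obtain ⟨k, hk⟩ : ∃ k : ℕ, c ≤ b + k := ⟨(c - b).toNat, by omega⟩
  induction k generalizing c F with
  | zero =>
    exact ⟨F, 𝟙 F, ⟨hF.1, fun i hi ↦ hF.2 i (hi.imp_right fun h ↦ by omega)⟩, inferInstance⟩
  | succ k ih =>
    by_cases hcb : c ≤ b
    · exact ⟨F, 𝟙 F, ⟨hF.1, fun i hi ↦ hF.2 i (hi.imp_right fun h ↦ by omega)⟩, inferInstance⟩
    obtain ⟨F₁, s₁, hF₁, hq₁⟩ := exists_within_trunc P hst (by omega : a < c) F hF (hcoh c (by omega))
    obtain ⟨F₂, s₂, hF₂, hq₂⟩ := ih F₁ hF₁ (fun i hi ↦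
      (quasiIsoAt_iff_exactAt' s₁ i (hcoh i hi)).1 inferInstance) (by omega)
    exact ⟨F₂, s₂ ≫ s₁, ⟨hF₂.1, fun i hi ↦ hF₂.2 i (hi.imp_right fun h ↦ by omega)⟩, inferInstance⟩

include hlift in
omit [P.IsClosedUnderIsomorphisms] [P.ContainsZero] in
theorem isQuasiLiftable_of_liftable : PCoh.IsQuasiLiftable P := fun E F u hu hF ↦ by
  have := hlift E F u hu hF
  exact ⟨F, section_ u, hF, by rw [IsSplitEpi.id]; infer_instance⟩

include hst in
theorem isQuasiStable_of_stable : PCoh.IsQuasiStableUnderKernels P := by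
  intro K hK ⟨N, hN⟩ hP
  have hepi : ∀ j, Epi (K.toCycles j (j + 1)) := by
    intro j
    rw [epi_iff_surjective_up_to_refinements]
    intro A y
    obtain ⟨A', π, _, x, hx⟩ := (HomologicalComplex.exactAt_iff_exact_up_to_refinements K j (j + 1)
      (j + 1 + 1) (by simp) (by simp)).1 (hK (j + 1)) (y ≫ K.iCycles (j + 1)) (by simp)
    exact ⟨A', π, inferInstance, x, by rw [← cancel_mono (K.iCycles (j + 1))]; simpa using hx⟩
  have hses : ∀ j, (ShortComplex.mk (K.iCycles j) (K.toCycles j (j + 1))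
      (by rw [← cancel_mono (K.iCycles (j + 1))]; simp)).ShortExact := fun j ↦ by
    refine ShortComplex.ShortExact.mk' (ShortComplex.exact_of_f_is_kernel _ ?_) inferInstance (hepi j)
    refine KernelFork.IsLimit.ofι' _ _ fun k hk ↦ ⟨K.liftCycles k (j + 1) (by simp) ?_, K.liftCycles_i _ _ _ _⟩
    rw [← K.toCycles_i j (j + 1), reassoc_of% hk, zero_comp]
  have hZ : ∀ d : ℕ, ∀ j, N < j + d → 1 ≤ j → P (K.cycles j) := by
    intro d
    induction d with
    | zero => exact fun j hj _ ↦ P.prop_of_isZero (IsZero.of_mono (K.iCycles j) (hN j (by omega)))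
    | succ d ih =>
      exact fun j hj hj' ↦ prop_of_shortExact P hst (hses j) (hP j hj') (ih (j + 1) (by omega) (by omega))
  have h0 : IsZero (K.cycles 0) := by
    have := (hK 0).isZero_homology
    refine this.of_iso (K.isoHomologyπ 0 0 ?_ ?_)
    · simp
    · exact K.shape 0 0 (by simp)
  have : IsIso (K.toCycles 0 (0 + 1)) := (hses 0).isIso_g_iff.2 h0
  exact ⟨K.X 0, 𝟙 _, P.prop_of_iso (asIso (K.toCycles 0 (0 + 1))).symm (hZ N 1 (by omega) le_rfl), inferInstance⟩

variable [HasDerivedCategory.{w} C]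

include hlift in
omit [P.IsClosedUnderIsomorphisms] [P.ContainsZero] in
theorem exists_map {a b : ℤ} {E F : CochainComplex C ℤ} (hE : Within P a b E) (φ : Q.obj E ⟶ Q.obj F) :
    ∃ f : E ⟶ F, Q.map f = φ := by
  have : E.IsStrictlyLE b := (CochainComplex.isStrictlyLE_iff E b).2 fun i hi ↦ hE.2 i (Or.inr hi)
  have : ∀ i, Projective (E.X i) := fun i ↦ projective_of_mem P hlift (hE.1 i)
  have : E.IsKProjective := CochainComplex.isKProjective_of_projective E b
  obtain ⟨g, hg⟩ := (CochainComplex.IsKProjective.Qh_map_bijective E _).surjective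
    ((quotientCompQhIso C).hom.app E ≫ φ ≫ (quotientCompQhIso C).inv.app F)
  obtain ⟨f, rfl⟩ := (HomotopyCategory.quotient _ _).map_surjective g
  refine ⟨f, ?_⟩
  rw [← cancel_epi ((quotientCompQhIso C).hom.app E), ← quotientCompQhIso_hom_naturality, hg]
  simp

variable (hsum : ∀ X Y : C, P X → P Y → P (X ⨯ Y))

include hlift hsum in
theorem exists_perfect_cone {T : Triangle (DerivedCategory C)} (hT : T ∈ distTriang _)
    {E₁ E₂ : CochainComplex C ℤ} {a₁ b₁ a₂ b₂ : ℤ} (h₁ : Within P a₁ b₁ E₁) (h₂ : Within P a₂ b₂ E₂)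
    (e₁ : Q.obj E₁ ≅ T.obj₁) (e₂ : Q.obj E₂ ≅ T.obj₂) :
    ∃ E : CochainComplex C ℤ,
      Within P (min (a₁ - 1) a₂) (max (b₁ - 1) b₂) E ∧ Nonempty (Q.obj E ≅ T.obj₃) := by
  obtain ⟨f, hf⟩ := exists_map P hlift h₁ (e₁.hom ≫ T.mor₁ ≫ e₂.inv)
  refine ⟨CochainComplex.mappingCone f, ⟨fun i ↦ ?_, fun i hi ↦ ?_⟩,
    ⟨Triangle.π₃.mapIso (isoTriangleOfIso₁₂ _ _ (mappingCone_triangle_distinguished f) hT e₁ e₂ ?_)⟩⟩
  · exact P.prop_of_iso (HomologicalComplex.homotopyCofiber.XIsoBiprod f i (i + 1) rfl).symm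
      (prop_biprod P hsum (h₁.1 _) (h₂.1 _))
  · exact (CochainComplex.mappingCone.isZero_X_iff f i).2
      ⟨h₁.2 _ (hi.imp (by omega) (by omega)), h₂.2 _ (hi.imp (by omega) (by omega))⟩
  · show Q.map f ≫ e₂.hom = e₁.hom ≫ T.mor₁
    simp [hf]

include hlift hst hsum in
theorem prop_first_term {a b : ℤ} (F : CochainComplex C ℤ)
    (hvan : ∀ i : ℤ, i < a ∨ b < i → IsZero (F.X i)) (hP : ∀ i : ℤ, a < i → P (F.X i))
    {E : CochainComplex C ℤ} (hE : Within P a b E) (e : Q.obj E ≅ Q.obj F) : P (F.X a) := by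
  obtain ⟨f, hf⟩ := exists_map P hlift hE e.hom
  have : QuasiIso f := by
    rw [← isIso_Q_map_iff_quasiIso C, hf]
    infer_instance
  let K := CochainComplex.mappingCone f
  have hex : ∀ j, K.ExactAt j := (quasiIso_iff_forall_exactAt f).1 this
  have hKP : ∀ j, a < j → P (K.X j) := fun j hj ↦
    P.prop_of_iso (HomologicalComplex.homotopyCofiber.XIsoBiprod f j (j + 1) rfl).symm
      (prop_biprod P hsum (hE.1 _) (hP j hj))
  have hKz : ∀ j, b < j → IsZero (K.X j) := fun j hj ↦
    (CochainComplex.mappingCone.isZero_X_iff f j).2 ⟨hE.2 _ (Or.inr (by omega)), hvan _ (Or.inr hj)⟩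
  have hepi : ∀ j, Epi (K.toCycles j (j + 1)) := by
    intro j
    rw [epi_iff_surjective_up_to_refinements]
    intro A y
    obtain ⟨A', π, _, x, hx⟩ := (exactAt_iff j (j + 1) (j + 1 + 1) rfl rfl).1 (hex (j + 1))
      (y ≫ K.iCycles (j + 1)) (by simp)
    exact ⟨A', π, inferInstance, x, by rw [← cancel_mono (K.iCycles (j + 1))]; simpa using hx⟩
  have hses : ∀ j, (ShortComplex.mk (K.iCycles j) (K.toCycles j (j + 1))
      (by rw [← cancel_mono (K.iCycles (j + 1))]; simp)).ShortExact := fun j ↦ by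
    refine ShortComplex.ShortExact.mk' (ShortComplex.exact_of_f_is_kernel _ ?_) inferInstance (hepi j)
    refine KernelFork.IsLimit.ofι' _ _ fun k hk ↦ ⟨K.liftCycles k (j + 1) (by simp) ?_, K.liftCycles_i _ _ _ _⟩
    rw [← K.toCycles_i j (j + 1), reassoc_of% hk, zero_comp]
  have hZ : ∀ d : ℕ, ∀ j, b < j + d → a < j → P (K.cycles j) := by
    intro d
    induction d with
    | zero => exact fun j hj _ ↦ P.prop_of_isZero (IsZero.of_mono (K.iCycles j) (hKz j (by omega)))
    | succ d ih =>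
      exact fun j hj hj' ↦ prop_of_shortExact P hst (hses j) (hKP j hj') (ih (j + 1) (by omega) (by omega))
  have hZ' : P (K.cycles (a + 1)) := hZ (b - a).toNat (a + 1) (by omega) (by omega)
  have hbot : P (K.cycles a) := by
    have hp : P (K.X (a - 1)) := P.prop_of_iso
      (HomologicalComplex.homotopyCofiber.XIsoBiprod f (a - 1) a (by simp)).symm
      (prop_biprod P hsum (hE.1 _) (P.prop_of_isZero (hvan _ (Or.inl (by omega)))))
    have h0 : IsZero (K.cycles (a - 1)) := by
      have : IsZero (K.X (a - 2)) := (CochainComplex.mappingCone.isZero_X_iff f (a - 2)).2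
        ⟨hE.2 _ (Or.inl (by omega)), hvan _ (Or.inl (by omega))⟩
      have h := hepi (a - 2)
      rw [show a - 2 + 1 = a - 1 by omega] at h
      exact IsZero.of_epi (K.toCycles (a - 2) (a - 1)) this
    have h := hses (a - 1)
    have : IsIso (K.toCycles (a - 1) (a - 1 + 1)) := h.isIso_g_iff.2 h0
    have h' := P.prop_of_iso (asIso (K.toCycles (a - 1) (a - 1 + 1))) hp
    rwa [show a - 1 + 1 = a by omega] at h'
  have hKa : P (K.X a) := by
    have : Projective (K.cycles (a + 1)) := projective_of_mem P hlift hZ'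
    have s := ShortComplex.Splitting.ofExactOfSection _ (hses a).exact
      (Projective.factorThru (𝟙 _) (K.toCycles a (a + 1))) (Projective.factorThru_comp _ _) inferInstance
    exact P.prop_of_iso s.isoBinaryBiproduct.symm (prop_biprod P hsum hbot hZ')
  have hB : P (E.X (a + 1) ⊞ F.X a) :=
    P.prop_of_iso (HomologicalComplex.homotopyCofiber.XIsoBiprod f a (a + 1) rfl) hKa
  let S := ShortComplex.mk (biprod.inr : F.X a ⟶ E.X (a + 1) ⊞ F.X a)
    (biprod.fst : E.X (a + 1) ⊞ F.X a ⟶ E.X (a + 1)) biprod.inr_fst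
  let sp : S.Splitting :=
    { r := (biprod.snd : E.X (a + 1) ⊞ F.X a ⟶ F.X a)
      s := (biprod.inl : E.X (a + 1) ⟶ E.X (a + 1) ⊞ F.X a)
      f_r := biprod.inr_snd
      s_g := biprod.inl_fst
      id := (add_comm _ _).trans biprod.total }
  exact prop_of_shortExact P hst sp.shortExact hB (hE.1 _)

include hlift hst hsum in
theorem exists_truncated_of_summand {a b : ℤ} (hab : a ≤ b) {F : DerivedCategory C}
    (hF : ∀ m, PCn P m F)
    (hge : ∀ i, i < a → IsZero ((homologyFunctor C i).obj F))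
    (hle : ∀ i, b < i → IsZero ((homologyFunctor C i).obj F)) :
    ∃ M : CochainComplex C ℤ, (∀ i, i < a ∨ b < i → IsZero (M.X i)) ∧ (∀ i, a < i → P (M.X i)) ∧
      Nonempty (Q.obj M ≅ F) := by
  obtain ⟨G, hG, ⟨e⟩⟩ := hF 0
  obtain ⟨L, s, hL, hs, hz⟩ := exists_strictAll_resolution P hsum (isQuasiStable_of_stable P hst)
    (isQuasiLiftable_of_liftable P hlift) (F := G) (fun m ↦ pcn_of_iso P e.symm (hF m)) (b + 1)
    (fun i hi ↦ (hle i (by omega)).of_iso ((homologyFunctor C i).mapIso e))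
  let eL : Q.obj L ≅ F := asIso (Q.map s) ≪≫ e
  have : L.IsGE a := (CochainComplex.isGE_iff L a).2 fun i hi ↦
    (exactAt_iff_isZero L i).2 ((hge i hi).of_iso ((homologyFunctor C i).mapIso eL))
  have hq : QuasiIso (L.πTruncGE a) := inferInstance
  have hX : ∀ i, a < i → Nonempty ((L.truncGE a).X i ≅ L.X i) := fun i hi ↦ by
    obtain ⟨k, rfl⟩ : ∃ k : ℕ, i = a + k := ⟨(i - a).toNat, by omega⟩
    exact ⟨HomologicalComplex.truncGEXIso L (ComplexShape.embeddingUpIntGE a) (i := k) (i' := a + k)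
      (by simp) (by rw [ComplexShape.boundaryGE_embeddingUpIntGE_iff]; omega)⟩
  refine ⟨L.truncGE a, ?_, fun i hi ↦ P.prop_of_iso (hX i hi).some.symm (hL.2 i),
    ⟨(asIso (Q.map (L.πTruncGE a))).symm ≪≫ eL⟩⟩
  rintro i (hi | hi)
  · exact CochainComplex.isZero_of_isStrictlyGE _ a i hi
  · exact (hz i (by omega)).of_iso (hX i (by omega)).some

end GrothLib.PC
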